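import Cfsg.Agent.Lib.MultO73.Steps

/-!
Kernel evaluation of the tables.
-/

set_option autoImplicit false
set_option maxRecDepth 40000
set_option Elab.async false

namespace Cfsg.Agent.Lib.MultO73

open Cfsg.Agent.Lib.CosetEnum

/-- The generators have order dividing four on a component. -/
noncomputable def permAt' (t x : ℕ) : Bool :=
  allBelow 8 fun g => Nat.blt (walk t [g] x) (size t) && Nat.beq (walk t [g, g, g, g] x) x

theorem perm_ok0 : allBelow 2187 (permAt' 0) = true := by decide +kernel

theorem perm_ok1 : allBelow 1134 (permAt' 1) = true := by decide +kernel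

theorem perm_ok2 : allBelow 6561 (permAt' 2) = true := by decide +kernel

/-- The central word acts as the central step, which commutes with the generators. -/
noncomputable def centralAt (t x : ℕ) : Bool :=
  Nat.beq (walk t cWord x) (cStep t x) &&
    allBelow 8 fun g => Nat.beq (cStep t (walk t [g] x)) (walk t [g] (cStep t x))

theorem central_ok0 : allBelow 2187 (centralAt 0) = true := by decide +kernel

theorem central_ok1 : allBelow 1134 (centralAt 1) = true := by decide +kernel

theorem central_ok2 : allBelow 6561 (centralAt 2) = true := by decide +kernel

/-- The powers of the central element below six are separated by two points. -/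
theorem cpow_sep : allBelow 6 (fun k => Nat.beq k 0 ||
    !(Nat.beq (cPow 1 k 0) 0 && Nat.beq (cPow 2 k 1) 1)) = true := by decide +kernel

theorem cpow_six : allBelow 1134 (fun x => Nat.beq (cPow 1 6 x) x) = true ∧
    allBelow 6561 (fun x => Nat.beq (cPow 2 6 x) x) = true := by
  exact ⟨by decide +kernel, by decide +kernel⟩

theorem cword_ok : lettersOk cWord = true := by decide +kernel

theorem square_ok : relExp 31 = 3 ∧ (∀ g < 8, Fi22Sub.RL0.getD (31 + g) [] = [g, g] ∧ relExp (31 + g) = 3) := by
  decide +kernel

end Cfsg.Agent.Lib.MultO73
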