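import Cfsg.Agent.Lib.MultO73.Steps

/-!
Kernel evaluation of the relators on the lifts.
-/

set_option autoImplicit false
set_option maxRecDepth 40000
set_option Elab.async false

namespace Cfsg.Agent.Lib.MultO73

open Cfsg.Agent.Lib.CosetEnum

/-- Each relator acts as its value. -/
noncomputable def relAt' (t x : ℕ) : Bool :=
  allBelow 39 fun r => Nat.beq (walk t (Fi22Sub.RL0.getD r []) x) (cPow t (relExp r) x)

theorem rel_len : Fi22Sub.RL0.length = 39 := by decide +kernel

theorem rel_letters : Fi22Sub.RL0.all lettersOk = true := by decide +kernel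

theorem rel_ok0 : allBelow 2187 (relAt' 0) = true := by decide +kernel

theorem rel_ok1 : allBelow 1134 (relAt' 1) = true := by decide +kernel

theorem rel_ok2 : allBelow 6561 (relAt' 2) = true := by decide +kernel

end Cfsg.Agent.Lib.MultO73
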