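import Cfsg.Agent.Lib.Schur.PcCollect

/-!
A certificate at the prime 3: words for generators of a Sylow subgroup of the sixfold cover, relations,
equations on tails and their combinations.
-/

set_option autoImplicit false
set_option maxRecDepth 20000

namespace Cfsg.Agent.Lib.MultO73

open Cfsg.Agent.Lib.Schur.PcCollect (Equat Data)

/-- The generators, as words. -/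
def threeGens : List (List ℕ) := [
    [0, 7, 6, 7, 2, 3, 1, 2, 6, 4, 3, 2, 1, 0, 1, 2, 3, 4, 6, 2, 1, 3, 2, 1, 2, 6, 7, 3, 2, 6, 4, 3, 2, 1, 2, 3, 4, 6, 2, 3, 7, 6, 2, 1],
    [3, 4, 2, 3, 1, 2, 6, 5, 4, 3, 2, 1, 0, 1, 2, 3, 4, 5, 6, 2, 1, 3, 2, 4, 3, 2, 6, 7, 4, 3, 2, 6, 5, 4, 3, 2, 1, 0, 1, 2, 3, 4, 5, 6, 2, 3, 4, 7, 6, 2, 3, 4, 2, 3, 1, 2, 6, 5, 4, 3, 2, 1, 0, 1, 2, 3, 4, 5, 6, 2, 1, 3, 2, 4, 3, 2, 6, 7, 4, 3, 2, 6, 5, 4, 3, 2, 1, 0, 1, 2, 3, 4, 5, 6, 2, 3, 4, 7, 6, 2, 3, 4, 2, 3, 1, 2, 6, 5, 4, 3, 2, 1, 0, 1, 2, 3, 4, 5, 6, 2, 1, 3, 2, 4, 3, 2, 6, 7, 4, 3, 2, 6, 5, 4, 3, 2, 1, 0, 1, 2, 3, 4, 5, 6, 2, 3, 4, 7, 6, 2, 3, 4, 2, 3, 1, 2, 6, 5, 4, 3, 2, 1, 0, 1, 2, 3, 4, 5,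 6, 2, 1, 3, 2, 4, 3, 2, 6, 7, 4, 3, 2, 6, 5, 4, 3, 2, 1, 0, 1, 2, 3, 4, 5, 6, 2, 3, 4, 7, 6, 2],
    [2, 6, 3, 2, 1, 2, 3, 6, 2, 6, 3, 2, 1, 2, 3, 6, 2, 6, 3, 2, 1, 2, 3, 6, 2, 6, 3, 2, 1, 2, 3, 6],
    [3, 2, 1, 0, 1, 2, 3, 7, 6, 2, 1, 2, 6, 7, 3, 2, 1, 0, 1, 2, 3, 7, 6, 2, 1, 2, 6, 7, 3, 2, 1, 0, 1, 2, 3, 7, 6, 2, 1, 2, 6, 7, 3, 2, 1, 0, 1, 2, 3, 7, 6, 2, 1, 2, 6, 7],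
    [6, 2, 1, 0, 1, 2, 6, 7, 6, 3, 2, 3, 6, 7, 6, 2, 1, 0, 1, 2, 6, 7, 6, 3, 2, 3, 6, 7, 6, 2, 1, 0, 1, 2, 6, 7, 6, 3, 2, 3, 6, 7, 6, 2, 1, 0, 1, 2, 6, 7, 6, 3, 2, 3, 6, 7, 1, 2, 6, 4, 3, 2, 1, 0, 1, 2, 3, 4, 6, 2, 1, 7, 3, 2, 6, 4, 3, 2, 1, 2, 3, 4, 6, 2, 3, 7, 1, 2, 6, 4, 3, 2, 1, 0, 1, 2, 3, 4, 6, 2, 1, 7, 3, 2, 6, 4, 3, 2, 1, 2, 3, 4, 6, 2, 3, 7, 1, 2, 6, 4, 3, 2, 1, 0, 1, 2, 3, 4, 6, 2, 1, 7, 3, 2, 6, 4, 3, 2, 1, 2, 3, 4, 6, 2, 3, 7, 1, 2, 6, 4, 3, 2, 1, 0, 1, 2, 3, 4, 6, 2, 1, 7, 3, 2, 6, 4, 3, 2, 1, 2, 3, 4, 6, 2, 3, 7],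
    [2, 6, 3, 2, 1, 2, 3, 6, 2, 6, 3, 2, 1, 2, 3, 6, 2, 6, 3, 2, 1, 2, 3, 6, 2, 6, 3, 2, 1, 2, 3, 6, 5, 4, 3, 2, 6, 7, 1, 2, 6, 5, 4, 3, 2, 1, 0, 1, 2, 3, 4, 5, 6, 2, 1, 7, 6, 2, 3, 4, 5, 4, 3, 2, 6, 7, 1, 2, 6, 5, 4, 3, 2, 1, 0, 1, 2, 3, 4, 5, 6, 2, 1, 7, 6, 2, 3, 4, 5, 4, 3, 2, 6, 7, 1, 2, 6, 5, 4, 3, 2, 1, 0, 1, 2, 3, 4, 5, 6, 2, 1, 7, 6, 2, 3, 4, 5, 4, 3, 2, 6, 7, 1, 2, 6, 5, 4, 3, 2, 1, 0, 1, 2, 3, 4, 5, 6, 2, 1, 7, 6, 2, 3, 4, 2, 6, 3, 2, 1, 2, 3, 6, 2, 6, 3, 2, 1, 2, 3, 6, 2, 6, 3, 2, 1, 2, 3, 6, 2, 6, 3, 2, 1, 2, 3, 6, 2, 6, 3, 2, 1, 2, 3, 6, 2, 6, 3, 2, 1, 2, 3, 6, 2, 6, 3, 2, 1, 2, 3, 6, 2, 6, 3, 2, 1, 2, 3, 6],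
    [2, 6, 3, 2, 1, 2, 3, 6, 2, 6, 3, 2, 1, 2, 3, 6, 2, 6, 3, 2, 1, 2, 3, 6, 2, 6, 3, 2, 1, 2, 3, 6, 3, 2, 1, 0, 1, 2, 3, 7, 6, 2, 1, 2, 6, 7, 3, 2, 1, 0, 1, 2, 3, 7, 6, 2, 1, 2, 6, 7, 3, 2, 1, 0, 1, 2, 3, 7, 6, 2, 1, 2, 6, 7, 3, 2, 1, 0, 1, 2, 3, 7, 6, 2, 1, 2, 6, 7, 3, 2, 1, 0, 1, 2, 3, 7, 6, 2, 1, 2, 6, 7, 3, 2, 1, 0, 1, 2, 3, 7, 6, 2, 1, 2, 6, 7, 3, 2, 1, 0, 1, 2, 3, 7, 6, 2, 1, 2, 6, 7, 3, 2, 1, 0, 1, 2, 3, 7, 6, 2, 1, 2, 6, 7, 6, 2, 1, 0, 1, 2, 6, 7, 6, 3, 2, 3, 6, 7, 6, 2, 1, 0, 1, 2, 6, 7, 6, 3, 2, 3, 6, 7, 6, 2, 1, 0, 1, 2, 6, 7, 6, 3, 2, 3, 6, 7, 6, 2, 1, 0, 1, 2, 6, 7, 6, 3, 2, 3, 6, 7],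
    [5, 4, 3, 2, 6, 7, 1, 2, 6, 5, 4, 3, 2, 1, 0, 1, 2, 3, 4, 5, 6, 2, 1, 7, 6, 2, 3, 4, 5, 4, 3, 2, 6, 7, 1, 2, 6, 5, 4, 3, 2, 1, 0, 1, 2, 3, 4, 5, 6, 2, 1, 7, 6, 2, 3, 4, 5, 4, 3, 2, 6, 7, 1, 2, 6, 5, 4, 3, 2, 1, 0, 1, 2, 3, 4, 5, 6, 2, 1, 7, 6, 2, 3, 4, 5, 4, 3, 2, 6, 7, 1, 2, 6, 5, 4, 3, 2, 1, 0, 1, 2, 3, 4, 5, 6, 2, 1, 7, 6, 2, 3, 4],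
    [0, 7, 6, 7, 2, 3, 1, 2, 6, 4, 3, 2, 1, 0, 1, 2, 3, 4, 6, 2, 1, 3, 2, 1, 2, 6, 7, 3, 2, 6, 4, 3, 2, 1, 2, 3, 4, 6, 2, 3, 7, 6, 2, 1, 5, 4, 3, 2, 6, 7, 1, 2, 6, 5, 4, 3, 2, 1, 0, 1, 2, 3, 4, 5, 6, 2, 1, 7, 6, 2, 3, 4, 5, 4, 3, 2, 6, 7, 1, 2, 6, 5, 4, 3, 2, 1, 0, 1, 2, 3, 4, 5, 6, 2, 1, 7, 6, 2, 3, 4, 5, 4, 3, 2, 6, 7, 1, 2, 6, 5, 4, 3, 2, 1, 0, 1, 2, 3, 4, 5, 6, 2, 1, 7, 6, 2, 3, 4, 5, 4, 3, 2, 6, 7, 1, 2, 6, 5, 4, 3, 2, 1, 0, 1, 2, 3, 4, 5, 6, 2, 1, 7, 6, 2, 3, 4, 0, 7, 6, 7, 2, 3, 1, 2, 6, 4, 3, 2, 1, 0, 1, 2, 3, 4, 6, 2, 1, 3, 2, 1, 2, 6, 7, 3, 2, 6, 4, 3, 2, 1, 2, 3, 4, 6, 2, 3, 7, 6, 2, 1, 5, 4, 3, 2, 6, 7, 1, 2, 6, 5, 4, 3, 2, 1, 0, 1, 2, 3, 4, 5, 6, 2, 1, 7, 6, 2,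 3, 4, 5, 4, 3, 2, 6, 7, 1, 2, 6, 5, 4, 3, 2, 1, 0, 1, 2, 3, 4, 5, 6, 2, 1, 7, 6, 2, 3, 4, 5, 4, 3, 2, 6, 7, 1, 2, 6, 5, 4, 3, 2, 1, 0, 1, 2, 3, 4, 5, 6, 2, 1, 7, 6, 2, 3, 4, 5, 4, 3, 2, 6, 7, 1, 2, 6, 5, 4, 3, 2, 1, 0, 1, 2, 3, 4, 5, 6, 2, 1, 7, 6, 2, 3, 4, 0, 7, 6, 7, 2, 3, 1, 2, 6, 4, 3, 2, 1, 0, 1, 2, 3, 4, 6, 2, 1, 3, 2, 1, 2, 6, 7, 3, 2, 6, 4, 3, 2, 1, 2, 3, 4, 6, 2, 3, 7, 6, 2, 1],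
    [2, 1, 0, 2, 3, 4, 2, 6, 7, 2, 1, 0, 2, 3, 4, 2, 6, 7, 2, 1, 0, 2, 3, 4, 2, 6, 7, 2, 1, 0, 2, 3, 4, 2, 6, 7, 2, 1, 0, 2, 3, 4, 2, 6, 7, 2, 1, 0, 2, 3, 4, 2, 6, 7, 2, 1, 0, 2, 3, 4, 2, 6, 7, 2, 1, 0, 2, 3, 4, 2, 6, 7, 2, 1, 0, 2, 3, 4, 2, 6, 7, 2, 1, 0, 2, 3, 4, 2, 6, 7, 0, 0]]

/-- The conjugating elements, as words. -/
def threeConj : List (List ℕ) := [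
    [4, 3, 2, 6, 5, 4, 3, 2, 1, 2, 3, 4, 5, 6, 2, 3, 4, 3, 2, 6, 7, 6, 2, 3, 1, 2, 6, 5, 4, 3, 2, 1, 0, 1, 2, 3, 4, 5, 6, 2, 1, 3, 2, 6, 7, 6, 2, 3],
    [4, 3, 2, 1, 2, 3, 4, 6, 5, 4, 3, 2, 3, 4, 5, 6, 2, 3, 0, 1, 2, 6, 7, 2, 3, 1, 2, 6, 5, 4, 3, 2, 1, 0, 1, 2, 3, 4, 5, 6, 2, 1, 3, 2, 7, 6, 2, 1, 0, 3, 2, 6, 5, 4, 3, 2, 1, 0, 1, 2, 3, 4, 5, 6],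
    [5, 4, 3, 1, 2, 6, 7, 6, 4, 2, 3, 1, 2, 6, 5, 4, 3, 2, 1, 0, 1, 2, 3, 4, 5, 6, 2, 1, 3, 2, 4, 6, 7, 6, 2, 1, 3, 4, 5, 6, 2, 3, 1, 2, 6, 7, 4, 2, 3, 1, 2, 6, 5, 4, 3, 2, 1, 0, 1, 2, 3, 4, 5, 6, 2, 1, 3, 2, 4, 7, 6, 2, 1, 3, 2, 6, 6, 3, 2, 1, 0, 1, 2, 3, 6, 2, 3, 0, 1, 2, 6, 7, 4, 2, 3, 1, 2, 6, 5, 4, 3, 2, 1, 0, 1, 2, 3, 4, 5, 6, 2, 1, 3, 2, 4, 7, 6, 2, 1, 0, 3, 2],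
    [2, 3, 1, 2, 6, 7, 6, 4, 2, 3, 1, 2, 6, 5, 4, 3, 2, 1, 0, 1, 2, 3, 4, 5, 6, 2, 1, 3, 2, 4, 6, 7, 6, 2, 1, 3, 2],
    [4, 2, 3, 1, 2, 6, 7, 3, 4, 2, 3, 1, 2, 6, 5, 4, 3, 2, 1, 0, 1, 2, 3, 4, 5, 6, 2, 1, 3, 2, 4, 3, 7, 6, 2, 1, 3, 2, 4, 5, 4, 5],
    [3, 2, 1, 0, 1, 2, 3],
    [6, 2, 3, 1, 2, 6, 5, 4, 3, 2, 1, 0, 1, 2, 3, 4, 5, 6, 2, 1, 3, 2, 6, 7, 6, 2, 3, 1, 2, 6, 4, 3, 2, 1, 0, 1, 2, 3, 4, 6, 2, 1, 3, 2, 6, 7, 3, 2, 6, 7, 2, 3, 1, 2, 6, 5, 4, 3, 2, 1, 0, 1, 2, 3, 4, 5, 6, 2, 1, 3, 2, 7, 6, 2, 3, 7, 2, 3, 1, 2, 6, 4, 3, 2, 1, 0, 1, 2, 3, 4, 6, 2, 1, 3, 2, 7]]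

/-- Separating sets: a point and a set kept by the later generators. -/
def threeSep : List (ℕ × List ℕ) := [
    (1, [1, 4, 7, 10, 13, 16, 19, 22, 25]),
    (1, [1, 4, 7]),
    (1, [1]),
    (9, [9]),
    (81, [81, 90, 99, 867, 876, 885, 1569, 1578, 1587]),
    (81, [81, 90, 99]),
    (81, [81]),
    (243, [243, 1017, 1773]),
    (243, [243]),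
    (2187, [2187])]

/-- The presentation. -/
def three : Data where
  p := 3
  n := 10
  fuel := 8947
  W := [
    [],
    [5, 5],
    [],
    [2, 4, 9],
    [2, 2, 3, 4, 5, 5, 6, 7],
    [],
    [3],
    [2, 2, 4, 4, 5, 6, 6, 7, 7, 9, 9],
    [3],
    [],
    [4],
    [4, 6, 9, 9],
    [4],
    [4],
    [],
    [1, 4, 5, 5, 6, 6, 7, 8, 9, 9],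
    [5],
    [7],
    [5, 5, 6, 6, 7, 7],
    [5, 6],
    [],
    [6, 9],
    [6],
    [6],
    [6],
    [6],
    [6],
    [],
    [1, 2, 2, 3, 3, 4, 4, 5, 6, 6, 7, 7, 8, 9, 9],
    [7],
    [5, 5, 6, 6, 7, 7],
    [5],
    [6, 7],
    [6, 7],
    [7],
    [],
    [1, 1, 2, 3, 4, 5, 5, 6, 7, 7],
    [6, 6, 8, 9],
    [4, 4, 5, 7, 7, 8, 9, 9],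
    [4, 5, 5, 6, 6, 7, 8, 9, 9],
    [6, 6, 8],
    [8],
    [8],
    [8],
    [],
    [9],
    [9],
    [9],
    [9],
    [9],
    [9],
    [9],
    [9],
    [9],
    []]
  phi := [
    [],
    [1, 3, 11, 11, 15, 15, 17],
    [3, 3, 4, 11, 11, 17, 17],
    [],
    [3, 4, 7],
    [1, 3, 3, 11, 15, 17, 17],
    [4, 4, 7, 7, 11],
    [1, 3, 3, 11, 15],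
    [],
    [4, 4, 7, 7]]
  conjs := [
    ([[1, 1, 2, 2, 3, 3, 4, 4, 5, 6, 8, 9], [2, 3, 3, 4, 6, 6], [3], [4], [5, 7, 7], [6], [9]], [[1, 1, 2, 4, 4, 5, 5, 7, 7, 8, 9], [2, 3, 3, 4, 6, 6], [2, 3, 4, 5, 5, 7, 9], [2, 2, 3, 4, 4, 5, 6, 6, 7, 7], [2, 2, 3, 4, 5, 5, 6, 7], [2, 3, 5, 5, 6, 7, 9, 9], [9]]),
    ([[0, 1, 4, 4, 5, 7, 8, 9, 9], [4, 4, 7, 7, 8, 8, 9], [9]], [[4, 5, 5, 6, 6, 7, 8, 9], [1, 4, 4, 5, 5, 6, 6, 7, 7, 8, 8], [9]]),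
    ([[1, 2, 2, 3, 3, 4, 5, 5, 6, 7, 7], [2, 3, 4, 8, 8, 9], [4, 5, 5, 6, 6, 7, 8, 8], [6], [9]], [[2, 2, 3, 3, 4, 8, 8, 9], [1, 4, 5, 6, 6, 7, 9, 9], [1, 1, 2, 2, 3, 3, 5, 5, 6, 6, 7, 7, 8, 8, 9], [1, 2, 3, 4, 4, 5, 5, 6, 6, 8, 8], [9]]),
    ([[1], [2, 3, 3, 4, 6, 6], [3], [4], [5, 6, 6, 7, 7, 8, 8], [6], [7], [8, 8, 9, 9], [9]], [[1, 1], [2, 2, 4, 4, 5, 5, 6, 7, 9, 9], [3], [2, 2, 3, 3, 5, 7, 7, 9], [1, 2, 2, 3, 3, 4, 4, 5, 5, 7, 8, 8, 9, 9], [6], [7], [1, 2, 2, 3, 3, 4, 4, 5, 6, 6, 7, 7, 8, 8, 9], [9]]),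
    ([[0, 2, 2, 3, 3, 4, 4, 6, 6, 9], [1, 2, 2, 3, 3, 4, 4, 5, 6, 6, 7, 7, 8, 9, 9], [6, 6, 8, 8], [7], [9]], [[0, 0, 2, 3, 6, 9], [7], [1, 2, 2, 3, 3, 4, 4, 5, 6, 7, 9, 9], [1, 2, 2, 3, 3, 4, 4, 5, 6, 6, 7, 7, 8, 9, 9], [9]]),
    ([[0], [2, 3, 3, 4, 6, 6], [3], [4], [5, 7, 7], [6], [9]], [[0], [2, 3, 3, 4, 6, 6], [3, 3], [4], [3, 5, 7, 7], [3, 3, 6], [9]]),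
    ([[2, 3], [3, 4, 6], [4, 5, 6, 6, 7, 7], [9]], [[0, 1, 4, 4, 5, 6, 6, 7, 7, 8, 8, 9, 9], [0, 0, 1, 1, 5, 5, 6, 6, 7, 8, 9], [4, 7, 8, 9, 9], [9]])]

/-- The equations with their forms. -/
def threeEqs : List (Equat × List ℕ) := [
    (.overlap [] 6 5 [2], [0, 0, 0, 0, 0, 0, 0, 0, 0, 0, 0, 0, 0, 0, 0, 0, 0, 0, 0, 0, 0, 0, 0, 0, 0, 0, 2, 0, 0, 0, 0, 0, 0, 0, 2]),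
    (.overlap [] 9 5 [2], [0, 0, 0, 0, 0, 0, 0, 0, 0, 0, 0, 0, 0, 0, 0, 0, 0, 0, 0, 0, 0, 0, 0, 0, 0, 0, 0, 0, 0, 0, 0, 0, 0, 0, 0, 0, 0, 0, 0, 0, 0, 0, 0, 0, 0, 0, 0, 0, 0, 0, 2, 0, 1]),
    (.overlap [] 5 5 [2], [0, 0, 0, 0, 0, 0, 0, 0, 0, 0, 0, 0, 0, 0, 0, 0, 0, 0, 0, 0, 2, 0, 0, 0, 0, 0, 0, 0, 0, 0, 0, 0, 0, 0, 0, 1]),
    (.overlap [] 7 5 [1], [0, 0, 0, 0, 0, 0, 0, 0, 0, 0, 0, 0, 0, 0, 0, 0, 0, 0, 0, 0, 0, 0, 2, 0, 0, 0, 0, 0, 0, 0, 0, 0, 0, 0]),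
    (.overlap [] 4 2 [0], [0, 0, 0, 0, 0, 0, 0, 0, 0, 0, 0, 0, 0, 0, 0, 0, 0, 0, 0, 0, 0, 0, 0, 0, 0, 0, 0, 0, 0, 0, 0, 0, 0, 0, 0, 0, 0, 0, 0, 0, 0, 0, 0, 0, 0, 0, 0, 0, 0, 2]),
    (.overlap [] 5 4 [2], [0, 0, 0, 0, 0, 0, 0, 0, 0, 0, 0, 0, 0, 0, 0, 0, 0, 0, 0, 2, 0, 0, 0, 2, 0, 0, 0, 0, 0, 0, 0, 0, 1, 0, 2]),
    (.overlap [] 6 3 [0], [0, 0, 0, 0, 0, 0, 0, 0, 0, 0, 0, 0, 0, 0, 0, 0, 0, 0, 0, 0, 0, 0, 0, 0, 0, 0, 0, 0, 0, 0, 0, 0, 0, 0, 0, 0, 0, 0, 0, 0, 0, 0, 0, 0, 0, 0, 0, 0, 1]),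
    (.overlap [] 7 4 [3], [0, 0, 0, 0, 0, 0, 0, 0, 0, 0, 0, 0, 0, 0, 0, 0, 0, 0, 0, 1, 0, 0, 0, 0, 2, 0, 2, 0, 0, 0, 0, 0, 2]),
    (.overlap [] 8 7 [5], [0, 0, 0, 0, 0, 0, 0, 0, 0, 0, 0, 0, 0, 0, 0, 0, 0, 0, 0, 0, 0, 0, 0, 0, 0, 0, 0, 0, 0, 0, 0, 0, 0, 0, 0, 0, 0, 0, 0, 0, 0, 0, 1, 0]),
    (.overlap [] 9 1 [0], [0, 0, 0, 0, 0, 0, 0, 0, 0, 0, 0, 0, 0, 0, 0, 0, 0, 0, 0, 0, 0, 0, 0, 0, 0, 0, 0, 0, 0, 0, 0, 0, 0, 0, 0, 0, 0, 0, 0, 0, 0, 0, 0, 0, 0, 0, 2, 0, 0, 0, 2]),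
    (.overlap [] 9 5 [4], [0, 0, 0, 0, 0, 0, 0, 0, 0, 0, 0, 0, 0, 0, 0, 0, 0, 0, 0, 0, 0, 0, 0, 0, 0, 0, 0, 0, 0, 0, 0, 0, 0, 0, 0, 0, 0, 0, 0, 0, 0, 0, 0, 0, 0, 0, 0, 0, 0, 0, 0, 1]),
    (.overlap [] 1 1 [0], [0, 0, 2, 0, 0, 0, 0, 0, 0, 0, 0, 0, 0, 0, 0, 0, 0, 0, 0, 0, 2]),
    (.overlap [] 3 2 [0], [0, 0, 0, 0, 0, 0, 0, 0, 0, 0, 0, 0, 0, 2, 0, 0, 0, 0, 0, 0, 0, 0, 0, 0, 0, 0, 0, 0, 0, 0, 0, 0, 0, 0, 0, 0, 0, 0, 0, 0, 0, 0, 0, 0, 0, 0, 0, 0, 2]),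
    (.overlap [] 8 7 [1], [0, 0, 0, 0, 0, 0, 0, 0, 0, 0, 0, 0, 0, 0, 0, 0, 0, 0, 0, 0, 0, 0, 0, 0, 0, 0, 0, 0, 0, 0, 0, 0, 0, 0, 1, 0, 0, 0, 0, 0, 0, 0, 0, 0, 0, 0, 0, 0, 0, 0, 0, 0, 1]),
    (.overlap [] 8 7 [4], [0, 0, 0, 0, 0, 0, 0, 0, 0, 0, 0, 0, 0, 0, 0, 0, 0, 0, 0, 0, 0, 0, 0, 0, 0, 0, 0, 0, 0, 0, 0, 0, 0, 0, 1, 0, 0, 0, 0, 0, 0, 0, 1, 0]),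
    (.overlap [] 7 5 [4], [0, 0, 0, 0, 0, 0, 0, 0, 0, 0, 0, 0, 0, 0, 0, 0, 0, 0, 0, 0, 0, 0, 0, 0, 0, 2, 1, 0, 0, 0, 0, 0, 0, 0, 1]),
    (.overlap [] 6 2 [0], [0, 0, 0, 0, 0, 0, 0, 0, 0, 0, 0, 0, 0, 0, 0, 0, 0, 0, 0, 0, 0, 0, 0, 0, 0, 1, 0, 0, 0, 0, 0, 0, 0, 0, 0, 0, 0, 0, 0, 0, 0, 0, 0, 0, 0, 0, 0, 1, 0, 1, 0, 2]),
    (.overlap [] 5 5 [4], [0, 0, 0, 0, 0, 0, 0, 0, 0, 0, 0, 0, 0, 0, 0, 0, 0, 0, 0, 0, 0, 0, 0, 0, 0, 0, 0, 1]),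
    (.overlap [] 6 6 [0], [0, 0, 0, 0, 0, 0, 0, 0, 0, 0, 0, 0, 0, 0, 0, 0, 0, 0, 0, 0, 0, 0, 0, 0, 0, 0, 0, 0, 0, 0, 0, 0, 0, 0, 0, 0, 0, 0, 0, 0, 0, 0, 0, 0, 0, 0, 0, 0, 0, 0, 0, 0, 0, 0, 1]),
    (.overlap [] 4 1 [0], [0, 0, 0, 0, 0, 0, 0, 0, 0, 0, 0, 2, 0, 0, 0, 0, 0, 0, 0, 1, 0, 2, 0, 0, 0, 0, 2, 2, 0, 0, 0, 0, 0, 0, 0, 0, 0, 0, 0, 0, 0, 0, 0, 0, 0, 1, 0, 0, 0, 0, 0, 0, 0, 0, 2]),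
    (.overlap [] 7 5 [2], [0, 0, 0, 0, 0, 0, 0, 0, 0, 0, 0, 0, 0, 0, 0, 0, 0, 0, 0, 0, 0, 0, 0, 2, 0, 0, 0, 2, 0, 0, 0, 0, 0, 0, 0, 0]),
    (.overlap [] 8 4 [1], [0, 0, 0, 0, 0, 0, 0, 0, 0, 0, 0, 0, 0, 0, 0, 0, 0, 0, 0, 0, 0, 0, 1, 0, 0, 2, 0, 0, 0, 0, 0, 0, 0, 0, 0, 0, 0, 0, 0, 0, 0, 0, 1, 0, 0, 0, 0, 0, 0, 1, 0, 2, 0, 1, 0]),
    (.overlap [] 8 7 [3], [0, 0, 0, 0, 0, 0, 0, 0, 0, 0, 0, 0, 0, 0, 0, 0, 0, 0, 0, 2, 0, 0, 0, 0, 0, 0, 0, 0, 0, 0, 0, 0, 0, 1, 0, 0, 0, 0, 0, 0, 0, 1, 0, 2, 0, 0, 0, 0, 0, 0, 2]),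
    (.overlap [] 2 2 [0], [0, 0, 0, 0, 0, 0, 0, 0, 0, 0, 0, 0, 0, 0, 1, 0, 0, 0, 0, 0, 0, 0, 0, 0, 0, 0, 0, 0, 0, 0, 0, 0, 0, 0, 0, 0, 0, 0, 0, 0, 0, 0, 0, 0, 0, 0, 0, 0, 0, 0, 0, 0, 0, 0, 1]),
    (.overlap [] 5 1 [0], [0, 0, 0, 0, 0, 0, 0, 0, 0, 0, 0, 0, 0, 0, 0, 0, 0, 0, 0, 1, 0, 0, 0, 0, 0, 0, 0, 0, 0, 0, 0, 0, 0, 2, 0, 0, 0, 0, 0, 0, 0, 2, 0, 0, 0, 0, 0, 0, 0, 0, 1]),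
    (.overlap [] 5 4 [0], [0, 0, 0, 0, 0, 0, 0, 0, 0, 0, 0, 2, 0, 0, 0, 0, 0, 0, 0, 1, 0, 2, 0, 0, 0, 1, 2, 1, 0, 0, 0, 0, 1, 0, 1, 0, 0, 0, 0, 0, 1, 0, 2, 0, 0, 0, 0, 0, 0, 0, 2, 1, 1, 1, 2]),
    (.overlap [] 4 2 [1], [0, 0, 0, 0, 0, 0, 0, 0, 0, 0, 0, 0, 1, 1, 0, 0, 0, 0, 0, 1, 0, 0, 0, 2, 1, 0, 1, 2, 0, 0, 0, 0, 2, 0, 2, 0, 0, 0, 0, 0, 0, 0, 0, 0, 0, 0, 0, 1, 2, 2, 1, 2, 2]),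
    (.overlap [] 5 3 [2], [0, 0, 0, 0, 0, 0, 0, 0, 0, 0, 0, 0, 0, 0, 0, 0, 0, 2, 2, 0, 2, 0, 0, 1, 0, 0, 1, 2, 0, 0, 1, 1, 0, 0, 0, 1]),
    (.overlap [] 5 3 [1], [0, 0, 0, 0, 0, 0, 0, 0, 0, 0, 0, 0, 0, 0, 0, 0, 2, 1, 2, 1, 0, 0, 1, 0, 0, 2, 0, 2, 0, 1, 1, 0, 1, 1, 1, 0, 0, 0, 0, 0, 0, 0, 0, 0, 0, 0, 0, 0, 0, 0, 2, 2, 2]),
    (.overlap [] 7 3 [0], [0, 0, 0, 0, 0, 0, 0, 2, 0, 1, 0, 0, 0, 2, 0, 2, 0, 0, 1, 0, 1, 0, 0, 0, 2, 2, 2, 1, 1, 0, 0, 1, 0, 1, 1, 0, 0, 0, 0, 1, 0, 0, 0, 0, 0, 0, 0, 0, 2, 1, 2, 2, 1, 1, 0]),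
    (.overlap [] 8 1 [0], [0, 0, 0, 0, 0, 0, 0, 0, 0, 0, 0, 0, 0, 0, 0, 0, 2, 1, 0, 1, 0, 1, 2, 1, 1, 1, 1, 0, 0, 0, 0, 1, 0, 1, 2, 0, 0, 2, 0, 0, 0, 0, 0, 0, 0, 2, 2, 1, 1, 1, 2, 0, 2, 0, 2]),
    (.overlap [] 8 3 [1], [0, 0, 0, 0, 0, 0, 0, 0, 0, 0, 0, 2, 2, 0, 1, 0, 1, 1, 0, 2, 1, 0, 1, 1, 0, 1, 0, 1, 0, 2, 2, 0, 1, 1, 2, 2, 0, 0, 2, 2, 2, 1, 2, 2, 0, 0, 1, 1, 0, 2, 0, 1, 0, 2, 0]),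
    (.overlap [] 5 5 [0], [0, 0, 1, 0, 0, 0, 0, 0, 0, 0, 0, 0, 0, 0, 1, 0, 0, 0, 0, 0, 1, 0, 0, 0, 0, 2, 0, 2, 0, 0, 0, 0, 0, 0, 1, 1, 0, 0, 0, 0, 0, 0, 1, 0, 1, 0, 0, 0, 0, 0, 0, 1, 0, 0, 2]),
    (.overlap [] 8 5 [0], [0, 0, 0, 0, 1, 1, 0, 1, 2, 0, 0, 2, 1, 0, 0, 0, 1, 2, 0, 0, 2, 0, 0, 2, 2, 0, 2, 0, 0, 0, 1, 0, 1, 0, 2, 2, 0, 1, 2, 2, 2, 0, 2, 1, 0, 0, 2, 1, 2, 0, 2, 1, 2, 0, 1]),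
    (.overlap [] 3 3 [1], [0, 0, 0, 0, 0, 2, 0, 0, 0, 2, 0, 0, 0, 0, 2, 0, 0, 0, 0, 0, 2, 0, 0, 1, 0, 2, 1, 0, 0, 0, 0, 0, 0, 0, 0, 1, 0, 0, 0, 0, 0, 0, 0, 0, 0, 0, 0, 0, 0, 0, 0, 1, 0, 0, 2]),
    (.overlap [] 7 1 [0], [0, 0, 0, 0, 0, 0, 0, 0, 0, 0, 0, 0, 0, 0, 0, 0, 1, 1, 2, 2, 2, 0, 0, 0, 2, 1, 2, 1, 0, 2, 1, 0, 0, 1, 0, 1, 0, 0, 0, 0, 0, 2, 0, 0, 0, 0, 0, 0, 0, 0, 1]),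
    (.overlap [] 2 1 [0], [0, 0, 2, 2, 2, 2, 2, 0, 1, 2, 2, 0, 0, 0, 0, 1, 0, 0, 1, 1, 2, 2, 2, 1, 1, 1, 2, 1, 2, 0, 1, 2, 0, 2, 1, 1, 0, 0, 2, 2, 1, 2, 2, 1, 2, 0, 2, 2, 0, 0, 2, 1, 0, 2, 1]),
    (.overlap [] 8 3 [0], [0, 0, 2, 0, 0, 1, 0, 1, 0, 0, 2, 0, 1, 0, 2, 1, 1, 2, 0, 0, 1, 1, 2, 2, 2, 0, 0, 0, 2, 2, 1, 1, 0, 1, 1, 2, 0, 0, 2, 1, 1, 2, 2, 1, 2, 1, 2, 0, 1, 2, 1, 1, 1, 1, 2]),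
    (.overlap [] 3 1 [0], [0, 0, 2, 1, 1, 2, 1, 0, 1, 2, 1, 2, 1, 0, 1, 2, 1, 0, 0, 0, 2, 1, 2, 2, 1, 1, 1, 2, 1, 2, 0, 1, 0, 0, 0, 0, 0, 0, 0, 0, 0, 0, 1, 0, 2, 1, 2, 1, 2, 0, 2, 1, 1, 1, 2]),
    (.conj 0 [([2, 1], [1, 2])], [0, 0, 0, 0, 0, 0, 0, 0, 1, 0, 0, 0, 0, 2, 0, 0, 0, 2, 1, 2, 0, 0, 0, 1, 2, 2, 0, 0, 0, 0, 1, 2, 1, 2, 2, 2, 0, 0, 0, 0, 0, 0, 0, 0, 0, 0, 0, 1, 2, 1, 0, 2]),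
    (.conj 0 [([4, 4, 4], [])], [0, 0, 0, 0, 0, 2, 0, 0, 0, 1, 0, 0, 0, 0, 1, 0, 0, 0, 0, 0, 0, 0, 0, 2, 0, 1, 1, 1, 0, 0, 0, 0, 0, 0, 0, 0]),
    (.conj 1 [([1, 1, 1], [])], [0, 0, 1, 0, 0, 0, 0, 0, 0, 0, 0, 0, 0, 0, 0, 0, 0, 0, 0, 0, 2, 0, 0, 0, 0, 2, 0, 0, 0, 0, 0, 0, 0, 0, 1, 0, 0, 0, 0, 0, 0, 0, 1, 0, 0, 0, 0, 0, 0, 0, 0, 2, 0, 0, 2]),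
    (.conj 1 [([2, 0], [0, 2])], [0, 0, 0, 0, 0, 0, 0, 0, 0, 0, 0, 0, 0, 0, 0, 0, 0, 0, 0, 0, 0, 0, 0, 0, 0, 0, 0, 0, 0, 0, 0, 0, 0, 0, 0, 0, 0, 0, 0, 0, 0, 0, 0, 0, 0, 2, 2, 0, 0, 2, 1, 2, 0, 0, 0]),
    (.conj 2 [([3, 1], [1, 3])], [0, 0, 0, 0, 1, 1, 0, 1, 2, 0, 0, 1, 1, 2, 1, 0, 1, 0, 1, 1, 1, 0, 0, 0, 0, 1, 0, 2, 0, 2, 1, 0, 0, 1, 0, 0, 0, 2, 0, 0, 2, 2, 1, 2, 0, 0, 1, 2, 2, 0, 1, 0, 0, 2, 2]),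
    (.conj 3 [([7, 6], [6, 7])], [0, 0, 0, 0, 0, 0, 0, 0, 0, 0, 0, 0, 0, 0, 0, 0, 0, 1, 0, 0, 0, 0, 0, 1, 1, 2, 0, 0, 0, 2, 0, 1, 1, 2, 0, 0, 0, 0, 0, 0, 0, 0, 0, 0, 0, 0, 0, 0, 0, 0, 0, 0, 2]),
    (.conj 4 [([0, 0, 0], [])], [1, 0, 0, 0, 0, 2, 0, 0, 0, 2, 2, 0, 2, 2, 0, 0, 0, 0, 0, 0, 0, 0, 0, 0, 0, 1, 0, 2, 0, 0, 0, 0, 0, 0, 0, 0, 0, 0, 0, 0, 0, 0, 0, 0, 0, 1, 0, 1, 1, 2, 0, 1, 0, 0, 1]),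
    (.conj 5 [([2, 0], [0, 2])], [0, 0, 0, 0, 0, 0, 1]),
    (.conj 6 [([2, 0], [0, 2])], [0, 0, 1, 0, 1, 2, 0, 1, 1, 1, 1, 2, 0, 0, 0, 0, 2, 1, 1, 2, 0, 0, 1, 1, 0, 2, 0, 0, 1, 2, 2, 2, 0, 1, 0, 0, 1, 0, 1, 1, 1, 0, 1, 2, 0, 2, 2, 2, 1, 1, 1, 2, 0, 1, 1])]

/-- The combinations. -/
def threeCombos : List (List ℕ) := [
    [0, 1, 1, 2, 2, 5, 6, 7, 9, 10, 10, 13, 14, 15, 16, 16, 21, 21, 22, 22, 25, 27, 29, 31, 31, 32, 34, 34, 37, 45, 45],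
    [],
    [0, 0, 10, 11, 11, 14, 14, 15, 15, 18, 41],
    [],
    [],
    [0, 2, 8, 8, 10, 14, 17, 18, 18, 34, 34, 40, 40],
    [46, 46],
    [],
    [2, 2, 4, 7, 8, 8, 10, 10, 12, 13, 14, 15, 17, 18, 19, 19, 20, 20, 21, 22, 22, 23, 23, 24, 25, 26, 28, 28, 31, 31, 32, 32, 34, 35, 35, 36, 38],
    [0, 0, 2, 10, 15, 15, 18, 20, 23, 34, 34, 40],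
    [1, 1, 4, 6, 7, 7, 8, 8, 10, 10, 13, 13, 14, 14, 15, 17, 18, 18, 20, 20, 21, 21, 22, 22, 23, 23, 25, 26, 27, 29, 31, 31, 32, 34, 37, 42],
    [],
    [0, 1, 1, 4, 4, 5, 6, 7, 7, 12, 12, 15, 16, 17, 17, 26, 26],
    [6, 12],
    [18, 23, 23],
    [],
    [0, 0, 1, 1, 2, 3, 5, 5, 7, 8, 10, 14, 14, 15, 17, 20, 27, 27, 28, 44],
    [],
    [1, 1, 3, 3, 6, 6, 10, 11, 11, 13, 13, 14, 14, 16, 17, 19, 19, 20, 21, 23, 23, 25, 25, 27, 27, 30, 32, 33, 34, 35, 36, 36, 38, 38, 40, 40, 41, 41],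
    [0, 0, 1, 1, 2, 3, 3, 4, 6, 8, 8, 10, 10, 11, 11, 13, 13, 14, 14, 16, 16, 17, 18, 18, 20, 20, 21, 21, 22, 22, 23, 23, 24, 24, 25, 27, 28, 30, 31, 32, 36, 36, 38, 38, 39, 40, 41, 41, 42, 43, 43, 44, 44],
    [0, 10, 10, 11, 11, 14, 15, 18, 18, 41, 41],
    [0, 1, 2, 3, 3, 6, 8, 9, 9, 11, 11, 16, 16, 17, 17, 19, 20, 20, 21, 21, 22, 22, 23, 23, 24, 24, 25, 27, 28, 30, 31, 32, 36, 36, 38, 38, 39, 40, 41, 41, 42, 42, 43, 43, 44, 44],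
    [3],
    [17, 20],
    [0, 0, 5, 7, 17, 17, 20, 20],
    [0, 15],
    [0, 8, 8, 14],
    [17, 17],
    [0, 0, 3, 4, 4, 5, 5, 6, 6, 7, 7, 8, 8, 10, 10, 11, 11, 15, 16, 16, 17, 17, 20, 20, 21, 23, 23, 25, 25, 26, 27, 28, 28, 29, 29, 30, 32, 33, 34, 34, 35, 37, 37, 38, 38, 39, 39, 40, 40, 41, 41, 46],
    [1, 3, 5, 5, 7, 8, 13, 15, 16, 17, 21, 21, 23, 23, 24, 25, 25, 26, 26, 27, 28, 28, 30, 30, 31, 31, 33, 35, 35, 42, 43, 43],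
    [1, 2, 2, 5, 6, 6, 7, 7, 8, 8, 10, 10, 11, 11, 13, 16, 19, 19, 21, 23, 23, 24, 24, 25, 25, 27, 27, 28, 30, 32, 33, 34, 35, 35, 36, 36, 38, 38, 40, 40, 41, 41],
    [0, 0, 1, 2, 2, 3, 3, 5, 5, 7, 8, 8, 10, 10, 13, 14, 17, 17, 24, 27, 27, 28, 28, 35, 35],
    [0, 0, 1, 1, 2, 3, 3, 4, 5, 5, 6, 10, 10, 11, 11, 13, 13, 14, 16, 16, 17, 17, 18, 18, 21, 21, 22, 22, 23, 23, 24, 24, 25, 27, 28, 30, 31, 32, 36, 36, 38, 38, 39, 40, 41, 41, 42, 43, 43, 44, 44],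
    [0, 0, 1, 1, 4, 6, 7, 8, 8, 10, 11, 11, 14, 15, 16, 18, 18, 22, 22, 24, 24, 25, 25, 26, 27, 27, 28, 30, 30, 31, 31, 32, 33, 33, 36, 36, 38, 38, 39, 40, 41, 41],
    [8, 14, 14],
    [0, 2, 2, 10, 10, 11, 11, 14, 15, 18, 18, 41, 41],
    [0, 0, 1, 3, 3, 4, 4, 5, 5, 8, 8, 9, 9, 10, 11, 11, 12, 15, 16, 18, 20, 21, 22, 22, 24, 24, 26, 26, 27, 27, 30, 30, 32, 32, 36, 36, 42, 42, 43, 46, 46, 47, 47],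
    [0, 0, 1, 1, 3, 5, 6, 6, 7, 7, 8, 9, 9, 10, 10, 14, 16, 17, 18, 18, 19, 21, 23, 24, 25, 26, 27, 28, 30, 30, 31, 33, 33, 35, 35, 42, 42, 43],
    [2, 2, 4, 4, 5, 5, 6, 7, 7, 8, 8, 9, 9, 10, 10, 11, 13, 14, 14, 15, 15, 16, 17, 17, 18, 19, 19, 20, 21, 21, 22, 22, 23, 24, 25, 25, 26, 27, 27, 28, 28, 32, 33, 33, 34, 37, 37, 38, 38, 39, 39, 41, 43, 43, 44, 44, 46],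
    [1, 1, 3, 3, 6, 11, 12, 15, 16, 16, 17, 18, 19, 20, 21, 21, 22, 23, 26, 27, 27, 28, 30, 30, 31, 33, 33, 34, 35, 35, 36, 36, 37, 41, 46, 46],
    [0, 0, 1, 2, 2, 3, 3, 4, 4, 5, 6, 6, 8, 9, 9, 10, 11, 13, 13, 14, 14, 15, 16, 18, 19, 21, 21, 22, 23, 24, 25, 27, 27, 28, 28, 30, 30, 31, 31, 32, 32, 36, 38, 39, 39, 40, 40, 41, 43, 44],
    [1, 2, 3, 3, 7, 7, 8, 8, 10, 13, 14, 14, 15, 15, 16, 17, 20, 20, 21, 21, 23, 23, 24, 25, 25, 26, 26, 27, 27, 30, 30, 31, 31, 33, 42, 43, 43, 44, 44],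
    [8, 8],
    [22, 24],
    [2, 10, 10, 17, 17, 18, 18, 23, 32, 32, 41],
    [1, 1, 4, 4, 8, 9, 9, 10, 13, 14, 14, 42],
    [1, 1, 8, 9, 13, 14, 14],
    [0, 0, 4, 4, 10, 10, 15, 15, 16, 16],
    [6, 6],
    [4],
    [1, 8, 8, 13, 13, 14],
    [10, 10],
    [8, 8, 13, 13, 14],
    [0, 3, 3, 4, 4, 8, 10, 10, 15, 21, 21],
    [18, 18]]

end Cfsg.Agent.Lib.MultO73
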