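import Cfsg.Agent.Lib.MultO73.Steps
import Cfsg.Agent.Lib.MultO73.ThreeData

/-!
Kernel evaluation of a certificate.
-/

set_option autoImplicit false
set_option maxRecDepth 40000
set_option Elab.async false

namespace Cfsg.Agent.Lib.MultO73

open Cfsg.Agent.Lib.CosetEnum
open Cfsg.Agent.Lib.Schur.PcCollect (maskVec listVec)

theorem three_words : (threeGens.all lettersOk && threeConj.all lettersOk) = true := by decide +kernel

theorem three_rels : allBelow 10 (fun i => allBelow (i + 1) fun j =>
    same ((three.lhs i j).flatMap fun k => threeGens.getD k [])
      ((three.rhs i j).flatMap fun k => threeGens.getD k [])) = true := by decide +kernel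

theorem three_conjs : allBelow three.conjs.length (fun c =>
    allBelow (three.conjs.getD c ([], [])).1.length fun k =>
      same (threeConj.getD c [] ++ ((three.conjs.getD c ([], [])).1.getD k []).flatMap fun k => threeGens.getD k [])
        ((((three.conjs.getD c ([], [])).2.getD k []).flatMap fun k => threeGens.getD k []) ++
          threeConj.getD c [])) = true := by decide +kernel

theorem three_sep : allBelow 10 (fun j =>
    let s := threeSep.getD j (0, [])
    (s.2.all fun y => Nat.blt y 9882) && s.2.any (Nat.beq s.1) &&
      !(s.2.any (Nat.beq (walkAll (threeGens.getD j []) s.1))) &&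
      allBelow 10 fun l => !Nat.blt j l ||
        s.2.all fun y => s.2.any (Nat.beq (walkAll (threeGens.getD l []) y))) = true := by decide +kernel

theorem three_cert : three.certOk (listVec 3) threeEqs threeCombos = true := by decide +kernel

end Cfsg.Agent.Lib.MultO73
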