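import Cfsg.Agent.Lib.Schur.PcCollect

/-!
A certificate at the prime 2: words for generators of a Sylow subgroup of the sixfold cover, relations,
equations on tails and their combinations.
-/

set_option autoImplicit false
set_option maxRecDepth 20000

namespace Cfsg.Agent.Lib.MultO73

open Cfsg.Agent.Lib.Schur.PcCollect (Equat Data)

/-- The generators, as words. -/
def twoGens : List (List ℕ) := [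
    [0, 1, 2, 6, 7, 3, 2, 6, 5, 4, 3, 2, 1, 2, 3, 4, 5, 6, 2, 3, 7, 6, 2, 1, 0],
    [2, 3, 1, 2, 6, 7, 4, 3, 2, 6, 5, 4, 3, 2, 1, 2, 3, 4, 5, 6, 2, 3, 4, 7, 6, 2, 1, 3, 2],
    [0, 1, 2, 6, 7, 3, 2, 6, 5, 4, 3, 2, 1, 2, 3, 4, 5, 6, 2, 3, 7, 6, 2, 1, 0, 4, 3, 1, 2, 6, 7, 3, 1, 2, 6, 4, 3, 2, 1, 0, 1, 2, 3, 4, 6, 2, 1, 3, 7, 6, 2, 1, 3, 4],
    [6, 7, 3, 2, 6, 5, 4, 3, 2, 1, 0, 1, 2, 3, 4, 5, 6, 2, 3, 7, 6, 6, 5, 4, 2, 3, 1, 2, 6, 7, 4, 3, 1, 2, 6, 5, 4, 3, 2, 1, 0, 1, 2, 3, 4, 5, 6, 2, 1, 3, 4, 7, 6, 2, 1, 3, 2, 4, 5, 6],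
    [5, 2, 6, 7, 3, 4, 2, 3, 1, 2, 6, 5, 4, 3, 2, 1, 0, 1, 2, 3, 4, 5, 6, 2, 1, 3, 2, 4, 3, 7, 6, 2],
    [3, 1, 2, 6, 7, 3, 4, 2, 3, 1, 2, 6, 5, 4, 3, 2, 1, 0, 1, 2, 3, 4, 5, 6, 2, 1, 3, 2, 4, 3, 7, 6, 2, 1, 3, 2, 3, 1, 2, 6, 7, 4, 3, 2, 6, 5, 4, 3, 2, 1, 2, 3, 4, 5, 6, 2, 3, 4, 7, 6, 2, 1, 3, 2],
    [5, 2, 6, 7, 3, 4, 2, 3, 1, 2, 6, 5, 4, 3, 2, 1, 0, 1, 2, 3, 4, 5, 6, 2, 1, 3, 2, 4, 3, 7, 6, 2, 6, 7, 2, 6, 3, 2, 1, 2, 3, 6, 2, 7, 6, 2, 6, 7, 3, 4, 2, 3, 1, 2, 6, 5, 4, 3, 2, 1, 0, 1, 2, 3, 4, 5, 6, 2, 1, 3, 2, 4, 3, 7, 6, 2],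
    [0, 1, 2, 6, 7, 3, 2, 6, 5, 4, 3, 2, 1, 2, 3, 4, 5, 6, 2, 3, 7, 6, 2, 1, 0, 3, 4, 2, 3, 1, 2, 6, 7, 2, 3, 1, 2, 6, 5, 4, 3, 2, 1, 0, 1, 2, 3, 4, 5, 6, 2, 1, 3, 2, 7, 6, 2, 1, 3, 2, 4, 3, 6, 7, 3, 2, 6, 5, 4, 3, 2, 1, 0, 1, 2, 3, 4, 5, 6, 2, 3, 7, 6, 6, 5, 4, 2, 3, 1, 2, 6, 7, 4, 3, 1, 2, 6, 5, 4, 3, 2, 1, 0, 1, 2, 3, 4, 5, 6, 2, 1, 3, 4, 7, 6, 2, 1, 3, 2, 4, 5, 6],
    [3, 1, 2, 6, 7, 3, 4, 2, 3, 1, 2, 6, 5, 4, 3, 2, 1, 0, 1, 2, 3, 4, 5, 6, 2, 1, 3, 2, 4, 3, 7, 6, 2, 1, 3, 2, 3, 1, 2, 6, 7, 4, 3, 2, 6, 5, 4, 3, 2, 1, 2, 3, 4, 5, 6, 2, 3, 4, 7, 6, 2, 1, 3, 2, 1, 2, 6, 7, 6, 3, 4, 2, 3, 1, 2, 6, 5, 4, 3, 2, 1, 0, 1, 2, 3, 4, 5, 6, 2, 1, 3, 2, 4, 3, 6, 7, 6, 2, 1, 5, 2, 6, 7, 3, 4, 2, 3, 1, 2, 6, 5, 4, 3, 2, 1, 0, 1, 2, 3, 4, 5, 6, 2, 1, 3, 2, 4, 3, 7, 6, 2],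
    [0, 0]]

/-- The conjugating elements, as words. -/
def twoConj : List (List ℕ) := [
    [0, 1, 2, 6, 7, 3, 2, 6, 5, 4, 3, 2, 1, 2, 3, 4, 5, 6, 2, 3, 7, 6, 2, 1, 0, 2, 6, 7, 3, 4, 2, 3, 1, 2, 6, 5, 4, 3, 2, 1, 0, 1, 2, 3, 4, 5, 6, 2, 1, 3, 2, 4, 3, 7, 6, 2],
    [3, 2, 6, 7, 4, 2, 3, 1, 2, 6, 5, 4, 3, 2, 1, 0, 1, 2, 3, 4, 5, 6, 2, 1, 3, 2, 4, 7, 6, 2, 3, 5, 4, 3, 2, 6, 7, 6, 2, 3, 1, 2, 6, 4, 3, 2, 1, 0, 1, 2, 3, 4, 6, 2, 1, 3, 2, 6, 7, 6, 2, 3, 4, 5],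
    [6, 4, 2, 3, 1, 2, 6, 7, 4, 3, 1, 2, 6, 5, 4, 3, 2, 1, 0, 1, 2, 3, 4, 5, 6, 2, 1, 3, 4, 7, 6, 2, 1, 3, 2, 4, 6, 7, 6, 2, 1, 2, 6, 7],
    [6, 7, 3, 2, 6, 5, 4, 3, 2, 1, 0, 1, 2, 3, 4, 5, 6, 2, 3, 7, 6, 1, 2, 6, 7, 3, 2, 6, 4, 3, 2, 1, 2, 3, 4, 6, 2, 3, 7, 6, 2, 1],
    [5, 4, 2, 3, 1, 2, 6, 7, 4, 3, 1, 2, 6, 5, 4, 3, 2, 1, 0, 1, 2, 3, 4, 5, 6, 2, 1, 3, 4, 7, 6, 2, 1, 3, 2, 4, 5, 1, 2, 6, 7, 3, 2, 6, 5, 4, 3, 2, 1, 2, 3, 4, 5, 6, 2, 3, 7, 6, 2, 1],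
    [2, 6, 7, 2, 3, 1, 2, 6, 4, 3, 2, 1, 0, 1, 2, 3, 4, 6, 2, 1, 3, 2, 7, 6, 2, 2, 6, 7, 6, 4, 2, 3, 1, 2, 6, 5, 4, 3, 2, 1, 0, 1, 2, 3, 4, 5, 6, 2, 1, 3, 2, 4, 6, 7, 6, 2],
    [6, 3, 4, 2, 3, 1, 2, 6, 5, 4, 3, 2, 1, 0, 1, 2, 3, 4, 5, 6, 2, 1, 3, 2, 4, 3, 6, 5, 4, 2, 3, 1, 2, 6, 7, 4, 2, 3, 1, 2, 6, 5, 4, 3, 2, 1, 0, 1, 2, 3, 4, 5, 6, 2, 1, 3, 2, 4, 7, 6, 2, 1, 3, 2, 4, 5, 6, 7, 1, 2, 6, 3, 2, 1, 0, 1, 2, 3, 6, 2, 1, 7, 6, 6, 4, 2, 3, 1, 2, 6, 5, 4, 3, 2, 1, 0, 1, 2, 3, 4, 5, 6, 2, 1, 3, 2, 4, 6]]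

/-- Separating sets: a point and a set kept by the later generators. -/
def twoSep : List (ℕ × List ℕ) := [
    (1, [1, 2, 101, 172, 277, 545, 854, 979, 1181, 1245, 1345, 1696, 1761, 1934, 1949, 2089]),
    (1, [1, 101, 545, 854, 1181, 1761, 1934, 1949]),
    (1, [1, 545, 1761, 1949]),
    (1, [1, 1761]),
    (1, [1]),
    (3, [3, 243, 339, 579, 930, 1023, 1854, 2163]),
    (3, [3, 579, 930, 2163]),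
    (3, [3, 2163]),
    (3, [3]),
    (3322, [3322])]

/-- The presentation. -/
def two : Data where
  p := 2
  n := 10
  fuel := 164
  W := [
    [9],
    [1, 9],
    [9],
    [2, 9],
    [2],
    [9],
    [7, 9],
    [3, 5],
    [7, 9],
    [9],
    [3, 4, 7, 9],
    [4],
    [8, 9],
    [4, 9],
    [9],
    [5],
    [5, 9],
    [5],
    [5, 9],
    [5],
    [9],
    [2, 6],
    [6],
    [6, 9],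
    [4, 6],
    [6, 9],
    [6],
    [9],
    [3, 9],
    [5, 7, 9],
    [3, 9],
    [7, 9],
    [7],
    [7, 9],
    [7, 8, 9],
    [9],
    [3, 7, 8],
    [8],
    [4, 9],
    [8],
    [8],
    [8],
    [8, 9],
    [8, 9],
    [9],
    [9],
    [9],
    [9],
    [9],
    [9],
    [9],
    [9],
    [9],
    [9],
    []]
  phi := [
    [],
    [],
    [21],
    [0, 6],
    [24],
    [7],
    [],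
    [],
    [0, 12, 24],
    [0]]
  conjs := [
    ([[1, 5], [2, 4, 8, 9], [3], [4], [5, 8, 9], [6], [7], [8], [9]], [[1, 5], [6, 9], [3, 4, 9], [3, 4, 7], [3, 5, 7, 8], [2, 6], [3, 9], [3, 7, 8], [9]]),
    ([[5, 7, 9], [8], [9]], [[3, 7, 9], [8], [9]]),
    ([[5], [7], [9]], [[3, 4, 5], [3, 4, 7], [9]]),
    ([[0, 2, 3, 4, 7, 8, 9], [3, 7], [5, 7, 9], [9]], [[0, 2, 3, 4, 7, 8, 9], [7, 9], [5, 7, 9], [9]]),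
    ([[1, 5], [2, 3, 4, 6, 7, 8], [3, 4, 7], [4, 5, 8], [9]], [[4, 5, 8, 9], [2, 3, 4, 6, 7, 8], [3, 4, 7], [1, 5, 9], [9]]),
    ([[0], [1], [9]], [[1, 9], [0, 9], [9]]),
    ([[0, 2, 3, 4, 7, 8, 9], [1, 4, 8, 9], [9]], [[4, 5, 8], [2, 6, 9], [9]])]

/-- The equations with their forms. -/
def twoEqs : List (Equat × ℕ) := [
    (.overlap [] 0 0 [0], 0x200000000000),
    (.overlap [] 1 1 [1], 0x400000000000),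
    (.overlap [] 2 2 [2], 0x800000000000),
    (.overlap [] 3 3 [3], 0x1000000000000),
    (.overlap [] 4 4 [4], 0x2000000000000),
    (.overlap [] 5 5 [5], 0x4000000000000),
    (.overlap [] 6 6 [6], 0x8000000000000),
    (.overlap [] 7 7 [7], 0x10000000000000),
    (.overlap [] 8 8 [8], 0x20000000000000),
    (.overlap [] 4 2 [1], 0x402000000800),
    (.overlap [] 6 5 [0], 0x20000),
    (.overlap [] 8 5 [2], 0x4020000080000),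
    (.overlap [] 1 0 [0], 0x40600000000000),
    (.overlap [] 3 0 [0], 0x41200010000040),
    (.overlap [] 3 2 [2], 0x41800040000100),
    (.overlap [] 3 3 [0], 0x50200800000200),
    (.overlap [] 4 2 [2], 0x42804000001000),
    (.overlap [] 4 4 [2], 0x60900000004000),
    (.overlap [] 8 3 [1], 0x20000000000),
    (.overlap [] 6 1 [0], 0x8800000000010),
    (.overlap [] 6 3 [1], 0x4080800),
    (.overlap [] 7 4 [2], 0x21008100000000),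
    (.overlap [] 8 6 [3], 0x1010000000000),
    (.overlap [] 3 1 [1], 0x41000000110000),
    (.overlap [] 4 3 [2], 0x30880000002000),
    (.overlap [] 7 5 [0], 0x44200200040000),
    (.overlap [] 3 3 [1], 0x44400000140000),
    (.overlap [] 6 6 [0], 0x48200000800020),
    (.overlap [] 6 6 [3], 0x49000002004000),
    (.overlap [] 6 4 [2], 0x68840002000000),
    (.overlap [] 3 2 [1], 0x4400220020080),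
    (.overlap [] 6 0 [0], 0x48800000000028),
    (.overlap [] 6 3 [3], 0x4a000000006000),
    (.overlap [] 3 1 [0], 0x10400220008080),
    (.overlap [] 8 7 [0], 0x11288080000000),
    (.overlap [] 7 6 [0], 0x1a01000000300),
    (.overlap [] 6 3 [2], 0x10140401001000),
    (.overlap [] 8 2 [0], 0x502011c0000500),
    (.conj 0 [([1, 0], [0, 1])], 0x220044a0810),
    (.conj 0 [([1, 1], [8]), ([0, 0], [8])], 0x8904008005020),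
    (.conj 0 [([4, 1], [1, 3, 4, 7]), ([3, 1], [1, 7, 8]), ([0, 0], [8])], 0x5a9eca86065200),
    (.conj 0 [([6, 2], [2, 6, 8]), ([0, 0], [8])], 0x42000080002000),
    (.conj 1 [([1, 0], [0, 1, 2]), ([0, 0], [2])], 0x5028280100200),
    (.conj 2 [([1, 1], [2]), ([0, 0], [2])], 0x140001800c0000),
    (.conj 3 [([1, 0], [0, 1])], 0x222080c0002040),
    (.conj 4 [([1, 1], [4]), ([0, 0], [4])], 0x62130000094004),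
    (.conj 5 [([1, 0], [0, 1, 2]), ([0, 0], [2])], 0x200000000005),
    (.conj 6 [([1, 0], [0, 1])], 0x2e6b9a6122e92),
    (.conj 6 [([1, 1], [2]), ([0, 0], [2])], 0x617af0d8987d4d)]

/-- The combinations. -/
def twoCombos : List (List ℕ) := [
    [],
    [0, 2, 3, 4, 9, 10, 12, 14, 16, 18, 19, 21, 22, 23, 30, 34, 37, 40, 41, 43, 45, 46, 47],
    [0, 46],
    [0, 1, 2, 3, 4, 8, 9, 12, 13, 17, 21, 22, 23, 24, 27, 37, 39, 45, 48],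
    [2, 6, 19],
    [3, 4, 6, 8, 9, 13, 17, 21, 22, 23, 24, 27, 31, 37, 39, 45, 48],
    [],
    [],
    [0, 1, 4, 12, 14, 24, 34, 44],
    [2, 4, 5, 7, 8, 17, 21, 22, 23, 25, 42, 43, 45, 46],
    [4, 5, 7, 8, 12, 18, 21, 24, 25, 26, 34, 35, 37, 42, 44],
    [0, 3, 7, 10, 11, 15, 16, 17, 20, 25, 29, 34, 40],
    [],
    [1, 4, 7, 17, 18, 21, 22, 23, 24, 26, 34, 43, 45, 46],
    [0, 6, 7, 12, 17, 18, 21, 22, 23, 24, 26, 32, 34, 43, 45, 46],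
    [5, 7, 10, 30, 33],
    [0, 2, 3, 4, 5, 11, 17, 22, 45, 46],
    [10],
    [0, 1, 2, 4, 11, 17, 22, 23, 26, 45, 46],
    [5, 11, 18],
    [1, 2, 4, 5, 11, 12, 17, 22, 23, 45, 46],
    [],
    [0, 1, 2, 3, 6, 7, 9, 11, 15, 16, 17, 18, 19, 25, 29, 34, 38, 40],
    [1, 3, 4, 8, 9, 12, 13, 17, 21, 22, 23, 24, 31, 37, 39, 45, 48],
    [],
    [1, 3, 7, 17, 18, 21, 22, 23, 24, 26, 28, 32, 34, 43, 45, 46],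
    [0, 3, 5, 7, 10, 15, 16, 17, 18, 25, 29, 34, 40],
    [2, 3, 9, 13, 16, 21, 22, 23, 24, 27, 31, 37, 45, 48],
    [1, 3, 12, 13],
    [0, 1, 2, 4, 10, 11, 12, 17, 22, 23, 25, 26, 30, 45, 46],
    [2, 3, 4, 24, 34, 44],
    [0, 7, 12, 17, 18, 21, 22, 23, 24, 26, 34, 41, 43, 45, 46],
    [1, 2, 4, 12, 21, 24, 34, 41],
    [0, 2, 4, 5, 11, 12, 17, 22, 23, 25, 26, 45, 46],
    [0, 1, 3, 7, 12, 17, 28, 29, 36],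
    [1, 2, 4, 5, 8, 12, 15, 17, 21, 22, 23, 25, 42, 43, 45, 46],
    [1, 3, 5, 7, 8, 12, 14, 17, 21, 22, 23, 24, 25, 34, 35, 42, 43, 44, 45, 46],
    [0, 1, 3, 7, 9, 10, 11, 15, 16, 17, 20, 25, 29, 34, 40],
    [0, 1, 2, 4, 12, 16],
    [1, 2, 3, 4, 8, 12, 24, 34, 41],
    [3, 22],
    [18],
    [0, 2, 3, 6, 7, 8, 12, 17, 18, 21, 22, 23, 24, 26, 28, 29, 32, 34, 43, 45, 46],
    [1, 2, 4, 8, 17, 18, 21, 22, 23, 26, 34, 43, 45, 46],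
    [1, 2, 6, 7, 8, 18, 21, 22, 23, 24, 26, 32, 34, 43, 45, 46],
    [0],
    [1],
    [2],
    [3],
    [4],
    [5],
    [6],
    [7],
    [8],
    [0, 1, 12]]

end Cfsg.Agent.Lib.MultO73
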