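import Cfsg.Agent.Lib.MultO73.Model
import Cfsg.Agent.Lib.Schur.PcCollect

/-!
Order, perfection and equality tests for the sixfold cover, and collection certificates inside it.
-/

set_option autoImplicit false
set_option maxRecDepth 20000

namespace Cfsg.Agent.Lib.MultO73

open Cfsg.Agent.Lib.CosetEnum
open Cfsg.Agent.Lib.Schur
open Cfsg.Agent.Lib.Schur.PcCollect (Data Vec)
open Subgroup

theorem coe_kc_pow (k : ℕ) : ((kc ^ k : K) : Amb) = cElt ^ k := by
  rw [coe_pow, kc, kev_val]; rfl

theorem pow_eq_one_of_fix {k : ℕ} (hk : k < 6)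
    (h1 : cPow 1 k 0 = 0) (h2 : cPow 2 k 1 = 1) : k = 0 := by
  have h := allBelow_iff.1 cpow_sep k hk
  simp only [Bool.or_eq_true, Nat.beq_eq, Bool.not_eq_true', Bool.and_eq_false_iff] at h
  rcases h with h | h | h
  · exact h
  · rw [h1] at h; simp at h
  · rw [h2] at h; simp at h

theorem orderOf_kc : orderOf kc = 6 := by
  refine (orderOf_eq_iff (by omega)).2 ⟨kc_pow_six, fun m hm hm0 h => ?_⟩
  obtain ⟨-, p1, p2⟩ := cPow_spec m
  have hc : cElt ^ m = 1 := by rw [← coe_kc_pow, h]; rfl
  have h1 := p1 (⟨0, by omega⟩ : Fin 1134)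
  have h2 := p2 (⟨1, by omega⟩ : Fin 6561)
  rw [hc] at h1 h2
  exact absurd (pow_eq_one_of_fix hm h1.symm h2.symm) hm0.ne'

theorem card_K : Nat.card K = 6 * 4585351680 := by
  obtain ⟨ψ, hψ, hrange, hinj, hker⟩ := exists_model
  rw [← toVec.ker.card_mul_index, index_ker, hker, Nat.card_zpowers, orderOf_kc, hrange]
  congr 1
  haveI : Finite (PresentedGroup Fi22Sub.pres) := Nat.finite_of_card_ne_zero Fi22Sub.card_le.1
  rw [← Nat.card_congr (MonoidHom.ofInjective hinj).toEquiv]
  refine le_antisymm Fi22Sub.card_le.2 ?_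
  rw [Nat.card_congr (MonoidHom.ofInjective hinj).toEquiv]
  exact O7Slp.card_ge (O7Rep.σ.comp ψ) (fun g => Fi22Sub.letters.phi Fi22Sub.pres g) fun g hg i => by
    rw [MonoidHom.comp_apply, hψ g hg]
    exact O7Rep.σ_iso g hg i

theorem finite_K : Finite K := Nat.finite_of_card_ne_zero (by rw [card_K]; omega)

theorem kev_eq {a b : List ℕ} (ha : lettersOk a = true) (hb : lettersOk b = true)
    (h : same a b = true) : kev a = kev b := by
  simp only [same, Bool.and_eq_true, List.all_eq_true, Nat.beq_eq] at h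
  obtain ⟨⟨hbase, h1⟩, h2⟩ := h
  obtain ⟨ψ, hψ, hrange, hinj, hker⟩ := exists_model
  obtain ⟨a0, a1, a2⟩ := wEv_spec ha
  obtain ⟨b0, b1, b2⟩ := wEv_spec hb
  have hv : ∀ l, (toVec (kev l)) = (wEv l).1 := fun l => congrArg Prod.fst (kev_val l)
  have hfst : toVec (kev a) = toVec (kev b) := by
    rw [← inv_inj, ← inv_mul_eq_one]
    have hfull : Nat.card (O7Rep.σ.comp ψ).range ≤ chainSize [O7Slp.level0, O7Slp.level1, O7Slp.level2,
        O7Slp.level3, O7Slp.level4, O7Slp.level5] := by
      rw [O7Slp.size_eq]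
      haveI : Finite (PresentedGroup Fi22Sub.pres) := Nat.finite_of_card_ne_zero Fi22Sub.card_le.1
      exact (Nat.card_le_card_of_surjective _ (O7Rep.σ.comp ψ).rangeRestrict_surjective).trans
        Fi22Sub.card_le.2
    have hP := slp_sound (O7Rep.σ.comp ψ) (fun g => Fi22Sub.letters.phi Fi22Sub.pres g)
      (fun g hg i => by rw [MonoidHom.comp_apply, hψ g hg]; exact O7Rep.σ_iso g hg i) O7Slp.slp_ok
    refine WordCodeCert.separate_of_levels _ hP O7Slp.levels_ok hfull ?_ fun c hc i hi => ?_
    · rw [← hrange]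
      exact mul_mem (inv_mem (inv_mem ⟨_, rfl⟩)) (inv_mem ⟨_, rfl⟩)
    · have hc' : c ∈ bases := hc
      have hab : (toVec (kev a))⁻¹ i = (toVec (kev b))⁻¹ i :=
        Fin.ext (by rw [hv, hv, a0, b0, hi]; exact hbase c hc')
      rw [inv_inv, Equiv.Perm.mul_apply, ← hab, Equiv.Perm.inv_def, Equiv.apply_symm_apply]
  rw [← inv_mul_eq_one]
  have hmem : (kev a)⁻¹ * kev b ∈ zpowers kc := by
    rw [← hker, MonoidHom.mem_ker, map_mul, map_inv, hfst, inv_mul_cancel]
  haveI := finite_K
  obtain ⟨k, hk, hk'⟩ : ∃ k < 6, kc ^ k = (kev a)⁻¹ * kev b := by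
    obtain ⟨m, hm⟩ := mem_powers_iff_mem_zpowers.2 hmem
    exact ⟨m % 6, Nat.mod_lt _ (by omega), by rw [← hm, ← orderOf_kc, pow_mod_orderOf]⟩
  rw [← hk']
  have hfix : wEv b = cElt ^ k * wEv a := by
    rw [← kev_val, ← kev_val, ← coe_kc_pow, ← Subgroup.coe_mul,
      ← mem_center_iff.1 (pow_mem kc_central k) (kev a), hk', mul_inv_cancel_left]
  obtain ⟨-, p1, p2⟩ := cPow_spec k
  have hk0 : k = 0 := by
    have e1 : ((wEv b).2.1)⁻¹ (⟨0, by omega⟩ : Fin 1134) = ((wEv a).2.1)⁻¹ ⟨0, by omega⟩ :=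
      Fin.ext (by rw [a1, b1]; exact h1.symm)
    have e2 : ((wEv b).2.2)⁻¹ (⟨1, by omega⟩ : Fin 6561) = ((wEv a).2.2)⁻¹ ⟨1, by omega⟩ :=
      Fin.ext (by rw [a2, b2]; exact h2.symm)
    rw [hfix, Prod.snd_mul, Prod.fst_mul, mul_inv_rev, Equiv.Perm.mul_apply] at e1
    rw [hfix, Prod.snd_mul, Prod.snd_mul, mul_inv_rev, Equiv.Perm.mul_apply] at e2
    exact pow_eq_one_of_fix hk ((p1 _).symm.trans (congrArg Fin.val (Equiv.injective _ e1)))
      ((p2 _).symm.trans (congrArg Fin.val (Equiv.injective _ e2)))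
  rw [hk0, pow_zero]

theorem perfect_K : commutator K = ⊤ := by
  obtain ⟨ψ, hψ, hrange, hinj, hker⟩ := exists_model
  have hR : commutator toVec.range = ⊤ := by
    rw [hrange]
    let e := MonoidHom.ofInjective hinj
    rw [← map_top_of_surjective e.toMonoidHom e.surjective, ← Fi22Sub.perfect, commutator_def, commutator_def,
      map_commutator, map_top_of_surjective e.toMonoidHom e.surjective]
  have hmap : (commutator K).map toVec.rangeRestrict = ⊤ := by
    rw [commutator_def, map_commutator, map_top_of_surjective _ toVec.rangeRestrict_surjective,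
      ← commutator_def, hR]
  -- the abelianisation is generated by the image of the central element
  have hgen : ∀ x : K, ∃ k : ℕ, Abelianization.of x = Abelianization.of kc ^ k := by
    intro x
    obtain ⟨c, hc, hcx⟩ := hmap.ge (mem_top (toVec.rangeRestrict x))
    have hy : c⁻¹ * x ∈ toVec.ker := by
      rw [MonoidHom.mem_ker, map_mul, map_inv, show toVec c = toVec x from congrArg Subtype.val hcx,
        inv_mul_cancel]
    rw [hker] at hy
    haveI := finite_K
    obtain ⟨k, hk⟩ := mem_powers_iff_mem_zpowers.2 hy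
    have h1 : Abelianization.of c = 1 := by rw [← MonoidHom.mem_ker, Abelianization.ker_of]; exact hc
    refine ⟨k, ?_⟩
    rw [← map_pow, show kc ^ k = c⁻¹ * x from hk, map_mul, map_inv, h1, inv_one, one_mul]
  set z := Abelianization.of kc with hz
  have hz6 : z ^ 6 = 1 := by rw [hz, ← map_pow, kc_pow_six, map_one]
  have hsq : ∀ g < 8, Abelianization.of (kgen g) ^ 2 = z ^ 3 := by
    intro g hg
    have h := kev_relator (r := 31 + g) (by omega)
    rw [(square_ok.2 g hg).1, (square_ok.2 g hg).2] at h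
    rw [pow_two, ← map_mul, hz, ← map_pow, ← h]
    simp [kev]
  have hz3 : z ^ 3 = 1 := by
    obtain ⟨k, hk⟩ := hgen (kgen 0)
    have h := hsq 0 (by omega)
    rw [hk, ← pow_mul] at h
    -- z ^ (2k) = z ^ 3 forces z ^ 3 = 1
    have h' := congrArg (· ^ 3) h
    simp only [← pow_mul] at h'
    rw [show k * 2 * 3 = 6 * k by ring, pow_mul, hz6, one_pow, show 3 * 3 = 6 + 3 by rfl, pow_add, hz6,
      one_mul] at h'
    exact h'.symm
  have hg1 : ∀ g, Abelianization.of (kgen g) = 1 := by
    intro g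
    by_cases hg : g < 8
    · obtain ⟨k, hk⟩ := hgen (kgen g)
      have h2 : Abelianization.of (kgen g) ^ 2 = 1 := (hsq g hg).trans hz3
      have h3 : Abelianization.of (kgen g) ^ 3 = 1 := by
        rw [hk, ← pow_mul, mul_comm, pow_mul, hz3, one_pow]
      rwa [pow_succ, h2, one_mul] at h3
    · rw [show kgen g = 1 from Subtype.ext (dif_neg hg), map_one]
  rw [eq_top_iff, ← Abelianization.ker_of]
  rintro ⟨x, hx⟩ -
  rw [MonoidHom.mem_ker]
  induction hx using Subgroup.closure_induction with
  | mem x hx => obtain ⟨g, hg, rfl⟩ := hx; exact hg1 g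
  | one => exact map_one _
  | mul a b ha hb iha ihb =>
    show Abelianization.of ((⟨a, ha⟩ : K) * ⟨b, hb⟩) = 1
    rw [map_mul, iha, ihb, one_mul]
  | inv a ha iha =>
    show Abelianization.of ((⟨a, ha⟩ : K)⁻¹) = 1
    rw [map_inv, iha, inv_one]

/-! ### certificates -/

/-- The image of a combined point under a triple. -/
noncomputable def actAll (a : Amb) (x : ℕ) : ℕ :=
  if h : x < 2187 then ((a.1)⁻¹ ⟨x, h⟩).1
  else if h1 : x - 2187 < 1134 then 2187 + ((a.2.1)⁻¹ ⟨x - 2187, h1⟩).1
  else if h2 : x - 3321 < 6561 then 3321 + ((a.2.2)⁻¹ ⟨x - 3321, h2⟩).1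
  else x

theorem actAll_one (x : ℕ) : actAll 1 x = x := by
  unfold actAll
  split_ifs with h h1 h2
  · rfl
  · show 2187 + (x - 2187) = x; omega
  · show 3321 + (x - 3321) = x; omega
  · rfl

theorem actAll_mul (a b : Amb) {x : ℕ} (hx : x < 9882) : actAll (a * b) x = actAll b (actAll a x) := by
  by_cases h : x < 2187
  · have hy : actAll a x = ((a.1)⁻¹ ⟨x, h⟩).1 := dif_pos h
    rw [hy, actAll, dif_pos h, actAll, dif_pos (Fin.isLt _)]
    rfl
  by_cases h1 : x - 2187 < 1134
  · have hy : actAll a x = 2187 + ((a.2.1)⁻¹ ⟨x - 2187, h1⟩).1 := by rw [actAll, dif_neg h, dif_pos h1]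
    have hlt := ((a.2.1)⁻¹ ⟨x - 2187, h1⟩).isLt
    rw [hy, actAll, dif_neg h, dif_pos h1, actAll, dif_neg (by omega), dif_pos (by omega)]
    simp only [Nat.add_sub_cancel_left]
    rfl
  · have h2 : x - 3321 < 6561 := by omega
    have hy : actAll a x = 3321 + ((a.2.2)⁻¹ ⟨x - 3321, h2⟩).1 := by
      rw [actAll, dif_neg h, dif_neg h1, dif_pos h2]
    have hlt := ((a.2.2)⁻¹ ⟨x - 3321, h2⟩).isLt
    rw [hy, actAll, dif_neg h, dif_neg h1, dif_pos h2, actAll, dif_neg (by omega), dif_neg (by omega),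
      dif_pos (by omega)]
    simp only [Nat.add_sub_cancel_left]
    rfl

theorem actAll_wEv {l : List ℕ} (hl : lettersOk l = true) {x : ℕ} (hx : x < 9882) :
    actAll (wEv l) x = walkAll l x := by
  obtain ⟨h0, h1, h2⟩ := wEv_spec hl
  by_cases h : x < 2187
  · rw [actAll, dif_pos h, h0, walkAll, split, show Nat.blt x 2187 = true by rw [Nat.blt_eq]; exact h]
    rfl
  have e0 : Nat.blt x 2187 = false := by rw [← Bool.not_eq_true, Nat.blt_eq]; exact h
  by_cases h' : x - 2187 < 1134
  · rw [actAll, dif_neg h, dif_pos h', h1, walkAll, split, e0,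
      show Nat.blt x 3321 = true by rw [Nat.blt_eq]; omega]
    rfl
  · rw [actAll, dif_neg h, dif_neg h', dif_pos (show x - 3321 < 6561 by omega), h2, walkAll, split, e0,
      show Nat.blt x 3321 = false by rw [← Bool.not_eq_true, Nat.blt_eq]; omega]
    rfl

/-- The word of a word in the listed generators. -/
def flatG (gens : List (List ℕ)) (l : List ℕ) : List ℕ := l.flatMap fun k => gens.getD k []

theorem lettersOk_getD {gens : List (List ℕ)} (h : gens.all lettersOk = true) (i : ℕ) :
    lettersOk (gens.getD i []) = true := by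
  by_cases hi : i < gens.length
  · rw [List.getD_eq_getElem _ _ hi]; exact List.all_eq_true.1 h _ (List.getElem_mem hi)
  · rw [List.getD_eq_default _ _ (not_lt.1 hi)]; rfl

theorem lettersOk_append {a b : List ℕ} (ha : lettersOk a = true) (hb : lettersOk b = true) :
    lettersOk (a ++ b) = true := by
  simp only [lettersOk, List.all_append, Bool.and_eq_true]
  exact ⟨ha, hb⟩

theorem lettersOk_flatG {gens : List (List ℕ)} (h : gens.all lettersOk = true) :
    ∀ l : List ℕ, lettersOk (flatG gens l) = true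
  | [] => rfl
  | k :: l => lettersOk_append (lettersOk_getD h k) (lettersOk_flatG h l)

theorem el_flatG (gens : List (List ℕ)) :
    ∀ l : List ℕ, Data.el (fun i => kev (gens.getD i [])) l = kev (flatG gens l)
  | [] => rfl
  | k :: l => by
    rw [Data.el_cons, el_flatG gens l, flatG, flatG, List.flatMap_cons, ← kev_append]

/-- A checked certificate kills the part of the multiplier of the cover. -/
theorem killsPart_of_checks (D : PcCollect.Data) (hp : D.p.Prime) (hn : D.n = 10) {α : Type} [BEq α] [LawfulBEq α]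
    (V : Vec D.p α) {eqs : List (PcCollect.Equat × α)} {combos : List (List ℕ)}
    (gens xs : List (List ℕ)) (sep : List (ℕ × List ℕ))
    (hw : (gens.all lettersOk && xs.all lettersOk) = true)
    (hrels : allBelow 10 (fun i => allBelow (i + 1) fun j =>
      same ((D.lhs i j).flatMap fun k => gens.getD k []) ((D.rhs i j).flatMap fun k => gens.getD k [])) = true)
    (hconjs : allBelow D.conjs.length (fun c =>
      allBelow (D.conjs.getD c ([], [])).1.length fun k =>
        same (xs.getD c [] ++ ((D.conjs.getD c ([], [])).1.getD k []).flatMap fun k => gens.getD k [])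
          ((((D.conjs.getD c ([], [])).2.getD k []).flatMap fun k => gens.getD k []) ++ xs.getD c [])) = true)
    (hsep : allBelow 10 (fun j =>
      let s := sep.getD j (0, [])
      (s.2.all fun y => Nat.blt y 9882) && s.2.any (Nat.beq s.1) &&
        !(s.2.any (Nat.beq (walkAll (gens.getD j []) s.1))) &&
        allBelow 10 fun l => !Nat.blt j l ||
          s.2.all fun y => s.2.any (Nat.beq (walkAll (gens.getD l []) y))) = true)
    (hcert : D.certOk V eqs combos = true) (hidx : ¬ D.p ^ (D.n + 1) ∣ 6 * 4585351680) :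
    Fusion.KillsPart D.p (⊤ : Subgroup K) := by
  haveI := finite_K
  simp only [Bool.and_eq_true] at hw
  refine PcCollect.killsPart_of_cert ⊤ D hp V (fun i => kev (gens.getD i [])) hcert ?_ ?_ ?_
    (by rwa [card_K])
  · intro i hi j hj
    rw [el_flatG, el_flatG]
    exact kev_eq (lettersOk_flatG hw.1 _) (lettersOk_flatG hw.1 _)
      (allBelow_iff.1 (allBelow_iff.1 hrels i (hn ▸ hi)) j (Nat.lt_succ_of_le hj))
  · intro j hj hmem
    have h := allBelow_iff.1 hsep j (hn ▸ hj)
    simp only [Bool.and_eq_true, List.all_eq_true, List.any_eq_true, Nat.beq_eq, Bool.not_eq_true',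
      Nat.blt_eq, allBelow_iff, Bool.or_eq_true] at h
    obtain ⟨⟨⟨hlt, y, hy, hb⟩, hout⟩, hinv⟩ := h
    generalize sep.getD j (0, []) = s at hlt hy hb hout hinv
    obtain ⟨b, S⟩ := s
    dsimp only at hlt hy hb hout hinv
    have key : ∀ x ∈ Submonoid.closure ((fun i => kev (gens.getD i [])) '' {l | j < l ∧ l < D.n}),
        ∀ i ∈ S, actAll (x : Amb) i ∈ S := by
      intro x hx
      induction hx using Submonoid.closure_induction with
      | mem z hz =>
        obtain ⟨l, ⟨hjl, hl⟩, rfl⟩ := hz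
        intro i hi
        rw [kev_val, actAll_wEv (lettersOk_getD hw.1 l) (hlt i hi)]
        rcases hinv l (hn ▸ hl) with hq | hq
        · rw [← Bool.not_eq_true, Nat.blt_eq] at hq; omega
        · obtain ⟨w, hw', he⟩ := hq i hi
          exact he ▸ hw'
      | one => intro i hi; rw [Subgroup.coe_one, actAll_one]; exact hi
      | mul x z _ _ ihx ihz =>
        intro i hi
        rw [Subgroup.coe_mul, actAll_mul _ _ (hlt i hi)]
        exact ihz _ (ihx i hi)
    rw [← Subgroup.mem_toSubmonoid, Subgroup.closure_toSubmonoid_of_finite] at hmem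
    have hbS : b ∈ S := by rw [hb]; exact hy
    have h' := key _ hmem b hbS
    rw [kev_val, actAll_wEv (lettersOk_getD hw.1 j) (hlt b hbS)] at h'
    have hcon : S.any (Nat.beq (walkAll (gens.getD j []) b)) = true :=
      List.any_eq_true.2 ⟨_, h', Nat.beq_refl _⟩
    rw [hcon] at hout
    exact Bool.noConfusion hout
  · intro uv huv
    obtain ⟨c, hc, rfl⟩ := List.getElem_of_mem huv
    refine ⟨kev (xs.getD c []), fun k hk => ?_⟩
    have h := allBelow_iff.1 hconjs c hc
    simp only [List.getD_eq_getElem _ _ hc, allBelow_iff] at h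
    rw [el_flatG, el_flatG, mul_inv_eq_iff_eq_mul, ← kev_append, ← kev_append]
    exact kev_eq (lettersOk_append (lettersOk_getD hw.2 c) (lettersOk_flatG hw.1 _))
      (lettersOk_append (lettersOk_flatG hw.1 _) (lettersOk_getD hw.2 c)) (h k hk)

end Cfsg.Agent.Lib.MultO73
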