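import Cfsg.Agent.Lib.MultO73.Cover
import Cfsg.Agent.Lib.MultO73.ChecksTwo
import Cfsg.Agent.Lib.MultO73.ChecksThree
import Cfsg.Agent.Lib.Schur.PermMult

/-!
The Schur multiplier of the orthogonal group in dimension seven over the integers modulo three.
-/

set_option autoImplicit false
set_option maxRecDepth 20000

namespace Cfsg.Agent.Lib.MultO73

open Cfsg.Agent.Lib.CosetEnum
open Cfsg.Agent.Lib.Schur
open Subgroup

theorem killsPart_two : Fusion.KillsPart 2 (⊤ : Subgroup K) :=
  killsPart_of_checks two Nat.prime_two rfl PcCollect.maskVec twoGens twoConj twoSep two_words two_rels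
    two_conjs two_sep two_cert (by show ¬ 2 ^ 11 ∣ 6 * 4585351680; norm_num)

theorem killsPart_three : Fusion.KillsPart 3 (⊤ : Subgroup K) :=
  killsPart_of_checks three Nat.prime_three rfl (PcCollect.listVec 3) threeGens threeConj threeSep three_words
    three_rels three_conjs three_sep three_cert (by show ¬ 3 ^ 11 ∣ 6 * 4585351680; norm_num)

theorem trivial_K : Cfsg.HasCyclicSchurMultiplier K 1 := by
  haveI := finite_K
  refine Fusion.hasTrivialMultiplier fun p hp hd => ?_
  rw [card_K] at hd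
  haveI := Fact.mk hp
  by_cases h2 : p = 2
  · exact ⟨⊤, by subst h2; simp, h2 ▸ killsPart_two⟩
  by_cases h3 : p = 3
  · exact ⟨⊤, by subst h3; simp, h3 ▸ killsPart_three⟩
  have hdd : p ∣ 2 ^ 10 * 3 ^ 10 * 5 * 7 * 13 := by norm_num; exact hd
  have hsq : ¬ p ^ 2 ∣ 6 * 4585351680 := by
    simp only [Nat.Prime.dvd_mul hp] at hdd
    rcases hdd with (((h | h) | h) | h) | h
    · exact absurd ((Nat.prime_dvd_prime_iff_eq hp Nat.prime_two).1 (hp.dvd_of_dvd_pow h)) h2
    · exact absurd ((Nat.prime_dvd_prime_iff_eq hp Nat.prime_three).1 (hp.dvd_of_dvd_pow h)) h3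
    all_goals obtain rfl := (Nat.prime_dvd_prime_iff_eq hp (by norm_num)).1 h
    all_goals norm_num
  obtain ⟨x, hx⟩ := exists_prime_orderOf_dvd_card' (G := K) p (by rw [card_K]; exact hd)
  refine ⟨zpowers x, fun hi => hsq ?_, Fusion.killsPart_zpowers p _⟩
  rw [← card_K, ← (zpowers x).card_mul_index, Nat.card_zpowers, hx, pow_two]
  exact Nat.mul_dvd_mul_left p hi

theorem multiplier : Cfsg.HasCyclicSchurMultiplier
    (Cfsg.POmega (ZMod 3) (Cfsg.quadFormOdd 3 (ZMod 3))) 6 := by
  obtain ⟨ψ, hψ, hrange, hinj, hker⟩ := exists_model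
  obtain ⟨e⟩ := O7Rep.nonempty_iso
  haveI := finite_K
  let E : toVec.range ≃* Cfsg.POmega (ZMod 3) (Cfsg.quadFormOdd 3 (ZMod 3)) :=
    ((MulEquiv.subgroupCongr hrange).trans (MonoidHom.ofInjective hinj).symm).trans e
  let σ : K →* Cfsg.POmega (ZMod 3) (Cfsg.quadFormOdd 3 (ZMod 3)) :=
    E.toMonoidHom.comp toVec.rangeRestrict
  have hσk : σ.ker = zpowers kc := by
    rw [← hker]
    ext x
    exact (MulEquiv.map_eq_one_iff E).trans Subtype.ext_iff
  have hstem : Cfsg.IsStemExtension σ := ⟨E.surjective.comp toVec.rangeRestrict_surjective,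
    by rw [hσk]; exact zpowers_le.2 kc_central, by rw [perfect_K]; exact le_top⟩
  haveI : IsCyclic σ.ker := by rw [hσk]; infer_instance
  exact PermMult.hasSchurMultiplier_of_cover σ hstem trivial_K
    (mulEquivOfCyclicCardEq (by
      rw [hσk, Nat.card_zpowers, orderOf_kc, Nat.card_congr Multiplicative.toAdd, Nat.card_zmod]))

end Cfsg.Agent.Lib.MultO73
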