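import Cfsg.Agent.Lib.MultO73.Checks
import Cfsg.Agent.Lib.MultO73.ChecksRel
import Cfsg.Agent.Lib.CosetEnum.O7Rep.Hom
import Cfsg.Agent.Lib.Schur.WordCodeCert

/-!
The sixfold cover of the orthogonal group in dimension seven over the field of three elements, as a group of
triples of permutations; the presentation of the simple group bounds it.
-/

set_option autoImplicit false
set_option maxRecDepth 20000

namespace Cfsg.Agent.Lib.MultO73

open Cfsg.Agent.Lib.CosetEnum
open Subgroup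

/-- The ambient group. -/
abbrev Amb : Type := Equiv.Perm (Fin 2187) × Equiv.Perm (Fin 1134) × Equiv.Perm (Fin 6561)

theorem perm_ok {t : ℕ} (h : allBelow (size t) (permAt' t) = true) (g : Fin 8) (x : Fin (size t)) :
    walk t [g.1] x.1 < size t ∧ walk t [g.1, g.1, g.1, g.1] x.1 = x.1 := by
  have h' := allBelow_iff.1 (allBelow_iff.1 h x.1 x.2) g.1 g.2
  simpa using h'

theorem walk_cons (t g : ℕ) (l : List ℕ) (x : ℕ) : walk t (g :: l) x = walk t l (walk t [g] x) := by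
  simp [walk, scan, force_eq]

theorem walk_cons₂ (t g g' : ℕ) (l : List ℕ) (x : ℕ) :
    walk t (g :: g' :: l) x = walk t (g' :: l) (walk t [g] x) := walk_cons t g _ x

theorem step_mul {t : ℕ} (h : allBelow (size t) (permAt' t) = true) (g : Fin 8) (x : Fin (size t)) :
    walk t [g.1, g.1, g.1] x.1 < size t := by
  rw [walk_cons₂, walk_cons₂]
  exact (perm_ok h g ⟨_, (perm_ok h g ⟨_, (perm_ok h g x).1⟩).1⟩).1

/-- One generator on one component. -/
noncomputable def comp {t : ℕ} (h : allBelow (size t) (permAt' t) = true) (g : Fin 8) :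
    Equiv.Perm (Fin (size t)) where
  toFun x := ⟨walk t [g.1, g.1, g.1] x.1, step_mul h g x⟩
  invFun x := ⟨walk t [g.1] x.1, (perm_ok h g x).1⟩
  left_inv x := Fin.ext (by
    show walk t [g.1] (walk t [g.1, g.1, g.1] x.1) = x.1
    have h4 := (perm_ok h g x).2
    rw [walk_cons₂, walk_cons₂, walk_cons₂] at h4
    rw [walk_cons₂, walk_cons₂]
    exact h4)
  right_inv x := Fin.ext (by
    show walk t [g.1, g.1, g.1] (walk t [g.1] x.1) = x.1
    have h4 := (perm_ok h g x).2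
    rw [walk_cons₂] at h4
    exact h4)

/-- A lifted generator. -/
noncomputable def gen (g : ℕ) : Amb :=
  if h : g < 8 then
    (comp (t := 0) perm_ok0 ⟨g, h⟩, comp (t := 1) perm_ok1 ⟨g, h⟩, comp (t := 2) perm_ok2 ⟨g, h⟩)
  else 1

/-- The element of a word. -/
noncomputable def wEv (l : List ℕ) : Amb := (l.map gen).prod

theorem wEv_append (a b : List ℕ) : wEv (a ++ b) = wEv a * wEv b := by simp [wEv]

theorem wEv_cons (g : ℕ) (l : List ℕ) : wEv (g :: l) = gen g * wEv l := by simp [wEv]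

theorem gen_spec {g : ℕ} (hg : g < 8) :
    (∀ x, (((gen g).1)⁻¹ x).1 = walk 0 [g] x.1) ∧ (∀ x, (((gen g).2.1)⁻¹ x).1 = walk 1 [g] x.1) ∧
      ∀ x, (((gen g).2.2)⁻¹ x).1 = walk 2 [g] x.1 := by
  rw [gen, dif_pos hg]
  exact ⟨fun x => rfl, fun x => rfl, fun x => rfl⟩

theorem wEv_spec {l : List ℕ} (hl : lettersOk l = true) :
    (∀ x, (((wEv l).1)⁻¹ x).1 = walk 0 l x.1) ∧ (∀ x, (((wEv l).2.1)⁻¹ x).1 = walk 1 l x.1) ∧
      ∀ x, (((wEv l).2.2)⁻¹ x).1 = walk 2 l x.1 := by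
  induction l with
  | nil => exact ⟨fun x => rfl, fun x => rfl, fun x => rfl⟩
  | cons g l ih =>
    simp only [lettersOk, List.all_cons, Bool.and_eq_true, Nat.blt_eq] at hl
    obtain ⟨h0, h1, h2⟩ := ih hl.2
    obtain ⟨k0, k1, k2⟩ := gen_spec hl.1
    rw [wEv_cons]
    refine ⟨fun x => ?_, fun x => ?_, fun x => ?_⟩
    · rw [Prod.fst_mul, mul_inv_rev, Equiv.Perm.mul_apply, h0, k0, ← walk_cons]
    · rw [Prod.snd_mul, Prod.fst_mul, mul_inv_rev, Equiv.Perm.mul_apply, h1, k1, ← walk_cons]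
    · rw [Prod.snd_mul, Prod.snd_mul, mul_inv_rev, Equiv.Perm.mul_apply, h2, k2, ← walk_cons]

/-- The central element. -/
noncomputable def cElt : Amb := wEv cWord

theorem cElt_spec :
    (∀ x, ((cElt.1)⁻¹ x).1 = cStep 0 x.1) ∧ (∀ x, ((cElt.2.1)⁻¹ x).1 = cStep 1 x.1) ∧
      ∀ x, ((cElt.2.2)⁻¹ x).1 = cStep 2 x.1 := by
  obtain ⟨h0, h1, h2⟩ := wEv_spec cword_ok
  refine ⟨fun x => ?_, fun x => ?_, fun x => ?_⟩
  · have h := allBelow_iff.1 central_ok0 x.1 x.2
    simp only [centralAt, Bool.and_eq_true, Nat.beq_eq] at h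
    exact (h0 x).trans h.1
  · have h := allBelow_iff.1 central_ok1 x.1 x.2
    simp only [centralAt, Bool.and_eq_true, Nat.beq_eq] at h
    exact (h1 x).trans h.1
  · have h := allBelow_iff.1 central_ok2 x.1 x.2
    simp only [centralAt, Bool.and_eq_true, Nat.beq_eq] at h
    exact (h2 x).trans h.1

theorem cPow_spec (k : ℕ) :
    (∀ x, (((cElt ^ k).1)⁻¹ x).1 = cPow 0 k x.1) ∧ (∀ x, (((cElt ^ k).2.1)⁻¹ x).1 = cPow 1 k x.1) ∧
      ∀ x, (((cElt ^ k).2.2)⁻¹ x).1 = cPow 2 k x.1 := by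
  induction k with
  | zero => exact ⟨fun x => rfl, fun x => rfl, fun x => rfl⟩
  | succ k ih =>
    obtain ⟨h0, h1, h2⟩ := ih
    obtain ⟨c0, c1, c2⟩ := cElt_spec
    refine ⟨fun x => ?_, fun x => ?_, fun x => ?_⟩
    · rw [pow_succ, Prod.fst_mul, mul_inv_rev, Equiv.Perm.mul_apply, c0, h0]; rfl
    · rw [pow_succ, Prod.snd_mul, Prod.fst_mul, mul_inv_rev, Equiv.Perm.mul_apply, c1, h1]; rfl
    · rw [pow_succ, Prod.snd_mul, Prod.snd_mul, mul_inv_rev, Equiv.Perm.mul_apply, c2, h2]; rfl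

theorem cElt_pow_six : cElt ^ 6 = 1 := by
  obtain ⟨h0, h1, h2⟩ := cPow_spec 6
  refine inv_eq_one.1 (Prod.ext (Equiv.ext fun x => Fin.ext ?_)
    (Prod.ext (Equiv.ext fun x => Fin.ext ?_) (Equiv.ext fun x => Fin.ext ?_)))
  · exact (h0 x).trans rfl
  · exact (h1 x).trans (Nat.eq_of_beq_eq_true (allBelow_iff.1 cpow_six.1 x.1 x.2))
  · exact (h2 x).trans (Nat.eq_of_beq_eq_true (allBelow_iff.1 cpow_six.2 x.1 x.2))

theorem cElt_commute {g : ℕ} (hg : g < 8) : Commute cElt (gen g) := by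
  obtain ⟨c0, c1, c2⟩ := cElt_spec
  obtain ⟨k0, k1, k2⟩ := gen_spec hg
  show cElt * gen g = gen g * cElt
  rw [← inv_inj, mul_inv_rev, mul_inv_rev]
  refine Prod.ext (Equiv.ext fun x => Fin.ext ?_)
    (Prod.ext (Equiv.ext fun x => Fin.ext ?_) (Equiv.ext fun x => Fin.ext ?_))
  · have h := allBelow_iff.1 central_ok0 x.1 x.2
    simp only [centralAt, Bool.and_eq_true, Nat.beq_eq, allBelow_iff] at h
    simp only [Prod.fst_mul, Prod.fst_inv, Equiv.Perm.mul_apply, c0, k0]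
    exact (h.2 g hg).symm
  · have h := allBelow_iff.1 central_ok1 x.1 x.2
    simp only [centralAt, Bool.and_eq_true, Nat.beq_eq, allBelow_iff] at h
    simp only [Prod.snd_mul, Prod.snd_inv, Prod.fst_mul, Prod.fst_inv, Equiv.Perm.mul_apply, c1, k1]
    exact (h.2 g hg).symm
  · have h := allBelow_iff.1 central_ok2 x.1 x.2
    simp only [centralAt, Bool.and_eq_true, Nat.beq_eq, allBelow_iff] at h
    simp only [Prod.snd_mul, Prod.snd_inv, Equiv.Perm.mul_apply, c2, k2]
    exact (h.2 g hg).symm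

/-- The cover. -/
def K : Subgroup Amb := closure {x | ∃ g < 8, gen g = x}

theorem gen_mem (g : ℕ) : gen g ∈ K := by
  by_cases h : g < 8
  · exact subset_closure ⟨g, h, rfl⟩
  · rw [gen, dif_neg h]; exact one_mem _

/-- A generator in the cover. -/
noncomputable def kgen (g : ℕ) : K := ⟨gen g, gen_mem g⟩

/-- The element of a word in the cover. -/
noncomputable def kev (l : List ℕ) : K := (l.map kgen).prod

theorem kev_val : ∀ l : List ℕ, (kev l : Amb) = wEv l
  | [] => rfl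
  | g :: l => by
    show ((kgen g * kev l : K) : Amb) = _
    rw [Subgroup.coe_mul, kev_val l, wEv_cons]
    rfl

theorem kev_append (a b : List ℕ) : kev (a ++ b) = kev a * kev b := by simp [kev]

/-- The central element in the cover. -/
noncomputable def kc : K := kev cWord

theorem kc_pow_six : kc ^ 6 = 1 := Subtype.ext (by rw [coe_pow, kc, kev_val]; exact cElt_pow_six)

theorem kc_central : kc ∈ center K := by
  refine mem_center_iff.2 fun x => Subtype.ext ?_
  have hle : K ≤ centralizer {cElt} := (closure_le _).2 (by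
    rintro _ ⟨g, hg, rfl⟩
    exact mem_centralizer_singleton_iff.2 (cElt_commute hg).symm.eq)
  show (x : Amb) * (kc : Amb) = (kc : Amb) * x
  rw [kc, kev_val]
  exact mem_centralizer_singleton_iff.1 (hle x.2)

theorem kev_relator {r : ℕ} (hr : r < 39) : kev (Fi22Sub.RL0.getD r []) = kc ^ relExp r := by
  refine Subtype.ext ?_
  rw [kev_val, coe_pow, kc, kev_val]
  have hl : lettersOk (Fi22Sub.RL0.getD r []) = true := by
    rw [List.getD_eq_getElem _ _ (rel_len ▸ hr)]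
    exact List.all_eq_true.1 rel_letters _ (List.getElem_mem _)
  obtain ⟨h0, h1, h2⟩ := wEv_spec hl
  obtain ⟨p0, p1, p2⟩ := cPow_spec (relExp r)
  rw [← inv_inj]
  refine Prod.ext (Equiv.ext fun x => Fin.ext ?_)
    (Prod.ext (Equiv.ext fun x => Fin.ext ?_) (Equiv.ext fun x => Fin.ext ?_))
  · exact (h0 x).trans ((Nat.eq_of_beq_eq_true
      (allBelow_iff.1 (allBelow_iff.1 rel_ok0 x.1 x.2) r hr)).trans (p0 x).symm)
  · exact (h1 x).trans ((Nat.eq_of_beq_eq_true
      (allBelow_iff.1 (allBelow_iff.1 rel_ok1 x.1 x.2) r hr)).trans (p1 x).symm)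
  · exact (h2 x).trans ((Nat.eq_of_beq_eq_true
      (allBelow_iff.1 (allBelow_iff.1 rel_ok2 x.1 x.2) r hr)).trans (p2 x).symm)

/-- The map on vectors. -/
def toVec : K →* Equiv.Perm (Fin 2187) := (MonoidHom.fst _ _).comp K.subtype

theorem toVec_gen {g : ℕ} (hg : g < 8) : toVec (kgen g) = O7Rep.σ (O7Rep.iso g) :=
  inv_inj.1 (Equiv.ext fun x => Fin.ext ((gen_spec hg).1 x |>.trans (by
    rw [O7Rep.σ_iso g hg x]
    simp [walk, scan, force_eq, tabOf])))

/-- The presented simple group maps to the cover modulo the central element. -/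
theorem exists_model : ∃ ψ : PresentedGroup Fi22Sub.pres →*
      Cfsg.isometryGroup (ZMod 3) (Cfsg.quadFormOdd 3 (ZMod 3)),
    (∀ g < 8, ψ (Fi22Sub.letters.phi Fi22Sub.pres g) = O7Rep.iso g) ∧
      toVec.range = (O7Rep.σ.comp ψ).range ∧ Function.Injective (O7Rep.σ.comp ψ) ∧
      toVec.ker = zpowers kc := by
  obtain ⟨ψ, hψ⟩ := invPres_prod (n := 7) (IV := 0x8398a418820) (RL0 := Fi22Sub.RL0) O7Rep.iso
    fun l hl => ⟨(O7Rep.rels_fix l hl).1, O7Rep.rels_one l hl⟩
  have hψ' : ∀ g < 8, ψ (Fi22Sub.letters.phi Fi22Sub.pres g) = O7Rep.iso g := hψ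
  have hge : 4585351680 ≤ Nat.card (O7Rep.σ.comp ψ).range :=
    O7Slp.card_ge (O7Rep.σ.comp ψ) (fun g => Fi22Sub.letters.phi Fi22Sub.pres g) fun g hg i => by
      rw [MonoidHom.comp_apply, hψ' g hg]
      exact O7Rep.σ_iso g hg i
  have hinj := injective_of_card (O7Rep.σ.comp ψ) Fi22Sub.card_le hge
  haveI hC : (zpowers kc).Normal := ⟨fun n hn x => by
    have : n ∈ center K := (zpowers_le.2 kc_central) hn
    rwa [mem_center_iff.1 this x, mul_inv_cancel_right]⟩
  obtain ⟨Φ, hΦ⟩ := invPres_prod (n := 7) (IV := 0x8398a418820) (RL0 := Fi22Sub.RL0)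
    (fun g => QuotientGroup.mk' (zpowers kc) (kgen g)) fun l hl => by
      obtain ⟨r, hr, rfl⟩ := List.getElem_of_mem hl
      refine ⟨(O7Rep.rels_fix _ hl).1, ?_⟩
      have h := kev_relator (r := r) (rel_len ▸ hr)
      rw [List.getD_eq_getElem _ _ hr] at h
      rw [show (List.map (fun g => QuotientGroup.mk' (zpowers kc) (kgen g)) Fi22Sub.RL0[r]).prod =
        QuotientGroup.mk' (zpowers kc) (kev Fi22Sub.RL0[r]) by
          rw [kev, map_list_prod, List.map_map]; rfl, h, QuotientGroup.mk'_apply, QuotientGroup.eq_one_iff]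
      exact npow_mem_zpowers kc _
  have hΦ' : ∀ g < 8, Φ (Fi22Sub.letters.phi Fi22Sub.pres g) = QuotientGroup.mk' (zpowers kc) (kgen g) := hΦ
  have hktop : closure {x : K | ∃ g < 8, kgen g = x} = ⊤ := by
    rw [eq_top_iff]
    rintro ⟨x, hx⟩ -
    induction hx using Subgroup.closure_induction with
    | mem x hx =>
      obtain ⟨g, hg, rfl⟩ := hx
      exact subset_closure ⟨g, hg, rfl⟩
    | one => exact one_mem _
    | mul a b _ _ ha hb => exact mul_mem ha hb
    | inv a _ ha => exact inv_mem ha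
  have hk8 : Fi22Sub.letters.K = 8 := rfl
  have hrange : toVec.range = (O7Rep.σ.comp ψ).range := by
    rw [range_eq_closure _ _ Fi22Sub.letters_col (O7Rep.σ.comp ψ), MonoidHom.range_eq_map, ← hktop,
      MonoidHom.map_closure]
    congr 1
    ext y
    constructor
    · rintro ⟨_, ⟨g, hg, rfl⟩, rfl⟩
      exact ⟨g, hg, by rw [MonoidHom.comp_apply, hψ' g hg, toVec_gen hg]⟩
    · rintro ⟨g, hg, rfl⟩
      exact ⟨_, ⟨g, hg, rfl⟩, by rw [MonoidHom.comp_apply, hψ' g hg, toVec_gen hg]⟩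
  have hcv : toVec kc = 1 := inv_eq_one.1 (Equiv.ext fun x => Fin.ext (by
    show (((kc : Amb).1)⁻¹ x).1 = _
    rw [kc, kev_val]; exact (cElt_spec.1 x).trans rfl))
  refine ⟨ψ, hψ', hrange, hinj, le_antisymm (fun x hx => ?_) (zpowers_le.2 hcv)⟩
  let f : K ⧸ zpowers kc →* Equiv.Perm (Fin 2187) := QuotientGroup.lift _ toVec (zpowers_le.2 hcv)
  have hfΦ : f.comp Φ = O7Rep.σ.comp ψ := by
    refine MonoidHom.eq_of_eqOn_dense (Letters.gen_closure (S := Fi22Sub.pres) Fi22Sub.letters_col) ?_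
    rintro _ ⟨g, hg, rfl⟩
    have hg8 : g < 8 := hg
    rw [MonoidHom.comp_apply, MonoidHom.comp_apply, hΦ' g hg8, hψ' g hg8, QuotientGroup.mk'_apply]
    exact toVec_gen hg8
  have hsurj : Φ.range = ⊤ := by
    rw [eq_top_iff, ← map_top_of_surjective _ (QuotientGroup.mk'_surjective (zpowers kc)), ← hktop,
      MonoidHom.map_closure, closure_le]
    rintro _ ⟨_, ⟨g, hg, rfl⟩, rfl⟩
    exact ⟨_, hΦ' g hg⟩
  obtain ⟨a, ha⟩ := hsurj.ge (mem_top (QuotientGroup.mk' (zpowers kc) x))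
  have h1 : O7Rep.σ.comp ψ a = 1 := by
    rw [← hfΦ, MonoidHom.comp_apply, ha]
    exact hx
  rw [hinj (h1.trans (map_one _).symm), map_one] at ha
  exact (QuotientGroup.eq_one_iff x).1 ha.symm

end Cfsg.Agent.Lib.MultO73
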