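import Cfsg.Agent.Lib.CosetEnum.O7Rep.Data
import Cfsg.Agent.Lib.CosetEnum.Fi22Sub.Pres
import Cfsg.Agent.Lib.MultO73.Tables

/-!
Three tables for the eight generators and evaluation of words by lookups.
-/

set_option autoImplicit false

namespace Cfsg.Agent.Lib.MultO73

open Cfsg.Agent.Lib.CosetEnum

/-- Table of component `t`. -/
noncomputable def tabOf : ℕ → PTree
  | 0 => O7Rep.table
  | 1 => monTab
  | _ => spinTab

/-- Number of points of component `t`. -/
def size : ℕ → ℕ
  | 0 => 2187
  | 1 => 1134
  | _ => 6561

/-- The image of a point of a component under a word. -/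
noncomputable def walk (t : ℕ) (l : List ℕ) (x : ℕ) : ℕ := scan 8 (tabOf t) l x

/-- All letters are generators. -/
def lettersOk (l : List ℕ) : Bool := l.all fun g => Nat.blt g 8

/-- The component of a combined point and the point in it. -/
def split (x : ℕ) : ℕ × ℕ :=
  bif Nat.blt x 2187 then (0, x) else bif Nat.blt x 3321 then (1, x - 2187) else (2, x - 3321)

/-- The image of a combined point. -/
noncomputable def walkAll (l : List ℕ) (x : ℕ) : ℕ :=
  match split x with
  | (0, y) => walk 0 l y
  | (1, y) => 2187 + walk 1 l y
  | (_, y) => 3321 + walk 2 l y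

/-- The central element on a component: shift of the fibres, change of the sign of the spinors. -/
noncomputable def cStep : ℕ → ℕ → ℕ
  | 0, x => x
  | 1, x => 3 * (x / 3) + (x % 3 + 1) % 3
  | _, x => walk 2 [0, 0] x

/-- Its powers. -/
noncomputable def cPow (t : ℕ) : ℕ → ℕ → ℕ
  | 0, x => x
  | k + 1, x => cStep t (cPow t k x)

/-- The word of the central element. -/
def cWord : List ℕ := Fi22Sub.RL0.getD 29 []

/-- The exponent of the value of a relator. -/
def relExp (r : ℕ) : ℕ := (4 * (relVal.getD r (0, 0)).1 + 3 * (relVal.getD r (0, 0)).2) % 6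

/-- The base points of a chain for the first component. -/
def bases : List ℕ := [0, 1, 3, 9, 81, 243]

/-- Two words agree on the first component's base, on a fibre point and on a spinor. -/
noncomputable def same (a b : List ℕ) : Bool :=
  bases.all (fun i => Nat.beq (walk 0 a i) (walk 0 b i)) && Nat.beq (walk 1 a 0) (walk 1 b 0) &&
    Nat.beq (walk 2 a 1) (walk 2 b 1)

end Cfsg.Agent.Lib.MultO73
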